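import Mathlib
import Cfsg.Agent.S0215
import Cfsg.Agent.S1180
import Cfsg.Agent.H301.SY.Spor
import Cfsg.Agent.H478.RadTools_m3
import Cfsg.Agent.H509.CycBlock
import Cfsg.Agent.H305.SepJ1
import Cfsg.Agent.KFacts.QMinus
import Cfsg.Agent.H305.SepJ3
import Cfsg.Agent.KFacts.J2.Facts
import Cfsg.Agent.J2Type.FiveFus
import Cfsg.Agent.J2Type.ThreeF
import Cfsg.Agent.H633.ElJ4
import Cfsg.Agent.H865.RhoEleven
import Cfsg.Agent.H49.JFourThree
import Cfsg.Agent.H465.SpFi23
import Cfsg.Agent.KFacts.FiTTh.Has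
import Cfsg.Agent.GH.Cov.SylowThree_m3
import Cfsg.Agent.FastGrp
import Cfsg.Agent.Prune
set_option linter.all false

section
prune_inst 0x7ffffffbbff8fddeffff7e7ffffddfffbbfeffffffdffbfbfffdfbffbfff6b7fffe5fbafffecf8ff8ef7e2b630f87b53fdffeeffef6bdc7ffffd5ff45ffbffdfffffbf8d11f7b83e1f746ffffbf17fffffffffffffffffffffffffffffffffffffffffffffff

-- part: H959/T5/Tools
section
prune_inst 0x100000000000000000000000000000000000000004000000000000000000002005000000000000000020010000000210000000000000000000000002000000000000200000002000000000000000000000000000000000000000000000000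
set_option linter.all false
open scoped Cfsg.Agent.FastGrp

-- part: H959/T5/Base
section
/-!
# S3854, elements of prime order `p ≥ 5`: the interface of the rows (helper959)

`K` a finite non-abelian simple group, `x : MulAut K` of prime order `p ≥ 5` with `RC x` (`Cfsg.Agent.H459.Rad`).

* `TE x` (`x : K`) : `⟨x, y⟩` is solvable for all `2`-elements `y` of `K`; `T2 x` (`x : MulAut K`) : the same;
* `NoTE p K` : no `x : K` of order `p` has `RE x` and `TE x`; `NoT p K` : no `x : MulAut K` of order `p` has `RC x` and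
  `T2 x` (**the goal for each simple group**); `NoT.of_noTE`, `NoTE.congr`, `NoT.congr`;
* `NoRE p K` : no `x : K` of order `p` has `RE x`; `NoRE.noTE`;
* criteria: `NoTE.of_lw`, `NoTE.of_sub`, `NoTE.of_sylow`, `NoTE.of_even` (only `RE` is used);
  `NoTE.of_m0` (`M0 x`);
  `NoTE.of_exp` (a `2`-element of order not dividing `p - 1`);
  `false_of_not_fix2` (the V4 trick: `x` normalises no non-trivial `2`-subgroup), `NoTE.of_order_two`, `NoTE.of_num`;
  `false_of_crow_odd` (groups of Lie type of odd characteristic).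
-/

set_option autoImplicit false
set_option linter.unusedSectionVars false

namespace Cfsg.Agent.H959.T5

open Cfsg Subgroup Cfsg.Agent.H459.Rad Cfsg.Agent.H459.Iface Cfsg.Agent.SignalizersComponents.ComponentExists
open Cfsg.Agent.H301.SY Cfsg.Agent.H959.Rad3

section Defs

variable {K : Type*} [Group K]

/-- `⟨x, y⟩` is solvable for all `2`-elements `y` -/
def TE (x : K) : Prop := ∀ y : K, (∃ k : ℕ, y ^ 2 ^ k = 1) → Group.IsSolvable ↥(closure ({x, y} : Set K))

/-- no element `x` of order `p` of `K` satisfies `RE x` and `TE x` -/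
def NoTE (p : ℕ) (K : Type*) [Group K] : Prop := ∀ x : K, orderOf x = p → RE x → TE x → False

/-- no element `x` of order `p` of `K` satisfies `RE x` -/
def NoRE (p : ℕ) (K : Type*) [Group K] : Prop := ∀ x : K, orderOf x = p → RE x → False

theorem NoRE.noTE {p : ℕ} (h : NoRE p K) : NoTE p K := fun x hx hR _ => h x hx hR

/-- no automorphism `x` of order `p` of `K` satisfies `RC x` and `T2 x` -/
def NoT (p : ℕ) (K : Type*) [Group K] : Prop := ∀ x : MulAut K, orderOf x = p → RC x → T2 x → False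

end Defs

section Congr

variable {K L : Type*} [Group K] [Group L]

theorem TE.map (e : K ≃* L) {x : K} (h : TE x) : TE (e x) := by
  rintro y ⟨k, hk⟩
  have h1 : (closure ({x, e.symm y} : Set K)).map e.toMonoidHom = closure ({e x, y} : Set L) := by
    rw [MonoidHom.map_closure, Set.image_pair]
    simp
  rw [← h1]
  exact isSolvable_map (h _ ⟨k, by rw [← map_pow, hk, map_one]⟩) _

/-- the tests are invariant under conjugation -/
theorem TE.conj {x : K} (h : TE x) (g : K) : TE (g * x * g⁻¹) := h.map (MulAut.conj g)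

variable [Finite K] [Finite L]

theorem NoTE.congr {p : ℕ} (e : K ≃* L) (h : NoTE p L) : NoTE p K := fun x hx hR hT =>
  h (e x) (by rw [← hx]; exact orderOf_injective e.toMonoidHom e.injective x) (hR.map e) (hT.map e)

theorem NoT.congr {p : ℕ} (e : K ≃* L) (h : NoT p L) : NoT p K := fun x hx hR hT =>
  h (Cfsg.Agent.H459.Rad.tr e x) (by rw [orderOf_tr, hx]) (hR.tr e) (hT.tr e)

end Congr

variable {K : Type*} [Group K] [Finite K] {p : ℕ} [hp : Fact p.Prime]

theorem TE.of_t2 (hZ : center K = ⊥) {x : K} (h : T2 (MulAut.conj x)) : TE x := fun _ hy => h.solvable hZ hy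

/-- from the elements of `K` to the automorphisms -/
theorem NoT.of_noTE [IsSimpleGroup K] (hna : ¬ IsMulCommutative K)
    (hinn : ∀ x : MulAut K, orderOf x = p → ∃ g, x = MulAut.conj g) (h : NoTE p K) : NoT p K := by
  intro x hx hR hY
  obtain ⟨g, rfl⟩ := hinn x hx
  have hZ := center_eq_bot hna
  refine h g ?_ (RE.of_rc hR) (TE.of_t2 hZ hY)
  rw [← hx]
  exact (orderOf_injective (MulAut.conj : K →* MulAut K) (conj_injective hZ) g).symm

/-! ### Criteria which only use `RE` -/

/-- a proper subgroup `L` of order divisible by `p`, with `p ∤ |Rad L|`, Sylow `p`-subgroups cyclic -/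
theorem NoTE.of_lw (hcyc : ∀ P : Sylow p K, IsCyclic (P : Subgroup K)) (h : Lw p K) : NoTE p K :=
  fun _ hx hR _ => h.false hx hR hcyc

/-- every element of order `p` is conjugate into a proper subgroup `L` with `p ∤ |Rad L|` -/
theorem NoTE.of_sub (h : ∀ x : K, orderOf x = p → ∃ L : Subgroup K, L ≠ ⊤ ∧ x ∈ L ∧ ¬ p ∣ Nat.card (radIn L)) :
    NoTE p K := by
  intro x hx hR _
  obtain ⟨L, hL, hxL, hr⟩ := h x hx
  have h1 := hR L hL hxL
  apply hr
  have h2 : orderOf (⟨x, h1⟩ : radIn L) = p := by rw [Subgroup.orderOf_mk]; exact hx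
  rw [← h2]
  exact orderOf_dvd_natCard _

/-- if `L` contains a Sylow `p`-subgroup then every element of order `p` is conjugate into `L` -/
theorem NoTE.of_sylow {L : Subgroup K} (hL : L ≠ ⊤) (P : Sylow p K) (hP : (P : Subgroup K) ≤ L)
    (hr : ¬ p ∣ Nat.card (radIn L)) : NoTE p K := by
  refine NoTE.of_sub fun x hx => ?_
  have hxp : IsPGroup p (zpowers x) := IsPGroup.of_card (n := 1) (by rw [Nat.card_zpowers, hx, pow_one])
  obtain ⟨Q, hQ⟩ := hxp.exists_le_sylow
  obtain ⟨g, hg⟩ := MulAction.exists_smul_eq K P Q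
  refine ⟨L.map (MulAut.conj g).toMonoidHom, ?_, ?_, ?_⟩
  · intro h1
    apply hL
    rw [eq_top_iff]
    intro y _
    have h2 : MulAut.conj g y ∈ L.map (MulAut.conj g).toMonoidHom := by rw [h1]; exact mem_top _
    obtain ⟨z, hz, h3⟩ := h2
    have h4 : z = y := (MulAut.conj g).injective h3
    rwa [← h4]
  · have h1 : x ∈ (Q : Subgroup K) := hQ (mem_zpowers x)
    rw [← hg, Sylow.coe_subgroup_smul] at h1
    obtain ⟨y, hy, h2⟩ := h1
    exact ⟨y, hP hy, h2⟩
  · rw [radIn_conj, Subgroup.card_map_of_injective (MulAut.conj g).injective]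
    exact hr

/-- every element of order `p` commutes with an element `u ≠ 1` with `p ∤ |Rad C(u)|` -/
theorem NoTE.of_even (hZ : center K = ⊥) (h : ∀ x : K, orderOf x = p → ∃ u : K, u ≠ 1 ∧ u * x = x * u ∧
    ¬ p ∣ Nat.card (radIn (centralizer ({u} : Set K)))) : NoTE p K := by
  refine NoTE.of_sub fun x hx => ?_
  obtain ⟨u, hu, hux, hr⟩ := h x hx
  refine ⟨centralizer ({u} : Set K), ?_, ?_, hr⟩
  · intro h1
    apply hu
    have h2 : u ∈ center K := by
      rw [mem_center_iff]
      intro g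
      exact (mem_centralizer_iff.1 (show g ∈ centralizer ({u} : Set K) by rw [h1]; exact mem_top _) u rfl).symm
    rwa [hZ, mem_bot] at h2
  · rw [mem_centralizer_iff]
    intro y hy
    rw [Set.mem_singleton_iff.1 hy, hux]

/-! ### The criterion `M0` -/

/-- if `M0 x` then the `2`-elements normalise `⟨x⟩` -/
theorem m0_false [IsSimpleGroup K] (hna : ¬ IsMulCommutative K) (h2 : 2 ∣ Nat.card K) {x : K}
    (hx : orderOf x = p) (hT : TE x) (h0 : M0 x) : False := by
  have hx1 : x ≠ 1 := by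
    rintro rfl
    rw [orderOf_one] at hx
    exact hp.out.one_lt.ne hx
  have : Fact (Nat.Prime 2) := ⟨Nat.prime_two⟩
  obtain ⟨y, hy⟩ := exists_prime_orderOf_dvd_card' 2 h2
  have hy1 : y ≠ 1 := by
    rintro rfl
    rw [orderOf_one] at hy
    omega
  have h1 : ∀ g : K, (g * y * g⁻¹) * x * (g * y * g⁻¹)⁻¹ ∈ zpowers x := by
    intro g
    have h3 : (g * y * g⁻¹) ^ 2 ^ 1 = 1 := by
      rw [pow_one, conj_pow, ← hy, pow_orderOf_eq_one, mul_one, mul_inv_cancel]
    exact h0 _ (hT _ ⟨1, h3⟩) (subset_closure (by simp)) _ (subset_closure (by simp))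
  have hne : normalClosure ({y} : Set K) = ⊤ := by
    rcases (inferInstance : (normalClosure ({y} : Set K)).Normal).eq_bot_or_eq_top with h2 | h2
    · exfalso
      apply hy1
      have h3 : y ∈ normalClosure ({y} : Set K) := subset_normalClosure rfl
      rwa [h2, mem_bot] at h3
    · exact h2
  have hle : normalClosure ({y} : Set K) ≤ normalizer ((zpowers x : Subgroup K) : Set K) := by
    rw [normalClosure, closure_le]
    intro z hz
    obtain ⟨w, hw, h3⟩ := Group.mem_conjugatesOfSet_iff.1 hz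
    rw [Set.mem_singleton_iff.1 hw] at h3
    obtain ⟨g, hg⟩ := isConj_iff.1 h3
    rw [← hg, SetLike.mem_coe, Subgroup.mem_normalizer_iff_map_conj_eq]
    refine Subgroup.eq_of_le_of_card_ge ?_ (le_of_eq (Subgroup.card_map_of_injective
      (K := zpowers x) (MulAut.conj (g * y * g⁻¹)).injective).symm)
    rintro _ ⟨a, ha, rfl⟩
    exact mem_normalizer_zpowers (h1 g) a ha
  rw [hne] at hle
  have hnorm : (zpowers x).Normal := Subgroup.normalizer_eq_top_iff.1 (top_le_iff.1 hle)
  rcases hnorm.eq_bot_or_eq_top with h2 | h2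
  · exact hx1 (zpowers_eq_bot.1 h2)
  · apply hna
    refine ⟨⟨fun a b => ?_⟩⟩
    obtain ⟨i, hi⟩ := mem_zpowers_iff.1 (show a ∈ zpowers x by rw [h2]; exact mem_top _)
    obtain ⟨j, hj⟩ := mem_zpowers_iff.1 (show b ∈ zpowers x by rw [h2]; exact mem_top _)
    rw [← hi, ← hj, ← zpow_add, ← zpow_add, add_comm]

/-- `M0` for all `x` -/
theorem NoTE.of_m0 [IsSimpleGroup K] (hna : ¬ IsMulCommutative K) (h2 : 2 ∣ Nat.card K)
    (h : ∀ x : K, orderOf x = p → RE x → TE x → M0 x) : NoTE p K :=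
  fun x hx hR hT => m0_false hna h2 hx hT (h x hx hR hT)

/-! ### The block lemma: `2`-elements of large order -/

/-- **the criterion of the exponent** : a `2`-element whose order does not divide `p - 1` -/
theorem NoTE.of_exp (hcyc : ∀ P : Sylow p K, IsCyclic (P : Subgroup K)) (hb : Blk p K) (hp2 : p ≠ 2) {y : K} {k : ℕ}
    (hy : y ^ 2 ^ k = 1) (hy1 : y ^ (p - 1) ≠ 1) : NoTE p K := by
  intro x hx _ hT
  apply hy1
  refine hb hcyc x y hx ?_ fun g => hT _ ⟨k, by rw [conj_pow, hy, mul_one, mul_inv_cancel]⟩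
  refine Nat.Coprime.coprime_dvd_left (orderOf_dvd_of_pow_eq_one hy) ?_
  exact Nat.Coprime.pow_left k ((Nat.coprime_primes Nat.prime_two hp.out).2 (Ne.symm hp2))

theorem NoTE.of_orderOf (hcyc : ∀ P : Sylow p K, IsCyclic (P : Subgroup K)) (hb : Blk p K) (hp2 : p ≠ 2) {y : K}
    {k : ℕ} (hy : orderOf y = 2 ^ k) (h : ¬ 2 ^ k ∣ p - 1) : NoTE p K := by
  refine NoTE.of_exp (y := y) (k := k) hcyc hb hp2 (by rw [← hy, pow_orderOf_eq_one]) fun h1 => h ?_
  rw [← hy]
  exact orderOf_dvd_of_pow_eq_one h1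

end Cfsg.Agent.H959.T5
end

-- part: H959/T5/VFour
section
/-!
# The V4 trick (helper959)

`K` a finite non-abelian simple group with cyclic Sylow `p`-subgroups, `x` of order `p` generates a solvable group with
every involution: then `x` normalises a non-trivial `2`-subgroup (`false_of_not_fix2`).
-/

set_option autoImplicit false
set_option linter.unusedSectionVars false

namespace Cfsg.Agent.H959.T5

open Cfsg Subgroup Cfsg.Agent.H459.Rad Cfsg.Agent.H459.Iface Cfsg.Agent.SignalizersComponents.ComponentExists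
open Cfsg.Agent.H301.SY Cfsg.Agent.H959.Rad3

variable {K : Type*} [Group K] [Finite K] {p : ℕ} [hp : Fact p.Prime]

/-- `x` normalises no non-trivial `2`-subgroup: the `p'`-subgroups normalised by `x` have odd order -/
theorem odd_of_not_fix2 {x : K} (hx : orderOf x = p) (hF : ¬ FixR 2 (MulAut.conj x)) {N : Subgroup K}
    (hN : ∀ a ∈ N, x * a * x⁻¹ ∈ N) (hpN : ¬ p ∣ Nat.card N) : Odd (Nat.card N) := by
  have h2 : Fact (Nat.Prime 2) := ⟨Nat.prime_two⟩
  obtain ⟨S, hSN, hS, hSc, hSx⟩ := exists_sylow_in (by rw [← hx, pow_orderOf_eq_one]) hN hpN Nat.prime_two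
  have h0 : S = ⊥ := by
    by_contra h0
    exact hF ⟨S, h0, hS, hSx⟩
  rw [h0, card_bot] at hSc
  rw [← Nat.not_even_iff_odd, even_iff_two_dvd]
  intro h
  have h1 := Nat.prime_two.factorization_pos_of_dvd Nat.card_pos.ne' h
  have h3 : 2 ^ 1 ≤ 2 ^ (Nat.card N).factorization 2 := Nat.pow_le_pow_right (by norm_num) h1
  omega

/-- a `2`-element which centralises `x` modulo a normal `p'`-subgroup of a group containing `x` is trivial -/
theorem eq_one_of_core {x : K} (hx : orderOf x = p) (hp2 : p ≠ 2) (hF : ¬ FixR 2 (MulAut.conj x)) {L : Subgroup K}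
    (hxL : x ∈ L) {v : L} {k : ℕ} (hv : v ^ 2 ^ k = 1)
    (hc : v⁻¹ * ((⟨x, hxL⟩ : L) * v * (⟨x, hxL⟩ : L)⁻¹) ∈ pPrimeCore p L) : v = 1 := by
  have hvc : (orderOf v).Coprime p := by
    refine Nat.Coprime.coprime_dvd_left (orderOf_dvd_of_pow_eq_one hv) ?_
    exact Nat.Coprime.pow_left k ((Nat.coprime_primes Nat.prime_two hp.out).2 (Ne.symm hp2))
  obtain ⟨M, hM, hvM, hxM⟩ := Cfsg.Agent.H509.CycBlock.exists_core (G := L) hvc hc
  have hM' : Odd (Nat.card (M.map L.subtype)) := by
    refine odd_of_not_fix2 hx hF ?_ ?_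
    · rintro _ ⟨a, ha, rfl⟩
      exact ⟨⟨x, hxL⟩ * a * (⟨x, hxL⟩ : L)⁻¹, (mem_normalizer_iff.1 hxM a).1 ha, rfl⟩
    · rw [Subgroup.card_map_of_injective L.subtype_injective]
      exact (Nat.Prime.coprime_iff_not_dvd hp.out).1 hM.symm
  rw [Subgroup.card_map_of_injective L.subtype_injective] at hM'
  have h1 : orderOf v ∣ Nat.card M := by
    have : orderOf (⟨v, hvM⟩ : M) ∣ Nat.card M := orderOf_dvd_natCard _
    rwa [Subgroup.orderOf_mk] at this
  have h2 : (orderOf v).Coprime (2 ^ k) := Nat.Coprime.pow_right k ((Nat.coprime_two_right).2 (hM'.of_dvd_nat h1))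
  have h3 : orderOf v ∣ 1 := by
    rw [← h2]
    exact Nat.dvd_gcd dvd_rfl (orderOf_dvd_of_pow_eq_one hv)
  exact orderOf_eq_one_iff.1 (Nat.dvd_one.1 h3)

/-- **The V4 trick.** -/
theorem vfour [IsSimpleGroup K] (hna : ¬ IsMulCommutative K) (h2K : 2 ∣ Nat.card K) (hp2 : p ≠ 2)
    (hcyc : ∀ P : Sylow p K, IsCyclic (P : Subgroup K)) {x : K} (hx : orderOf x = p)
    (hF : ¬ FixR 2 (MulAut.conj x))
    (hT : ∀ y : K, y * y = 1 → Group.IsSolvable ↥(closure ({x, y} : Set K))) : False := by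
  classical
  have h2 : Fact (Nat.Prime 2) := ⟨Nat.prime_two⟩
  have hC : Cfsg.Agent.H29.CyclicPairs.Cyc p K := hcyc
  -- solvable subgroups which contain `x`
  have key : ∀ (L : Subgroup K) (hL : Group.IsSolvable L) (hxL : x ∈ L) (u : K) (hu : u ∈ L),
      ∃ k : L, k ∈ pPrimeCore p L ∧ ∃ i : ℤ, ((k : K) * u) * x * ((k : K) * u)⁻¹ = x ^ i := by
    intro L hL hxL u hu
    have hLs : IsPSolvable p L := Lib.PSolvable.IsPSolvable_of_solvable p
    obtain ⟨k, hk, i, hi⟩ := Cfsg.Agent.H509.CycBlock.exists_normalizing (G := L)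
      (hC.of_injective L.subtype L.subtype_injective) hLs (x := ⟨x, hxL⟩) (by rw [Subgroup.orderOf_mk]; exact hx)
      ⟨u, hu⟩
    exact ⟨k, hk, i, congrArg Subtype.val hi⟩
  have hodd : ∀ (L : Subgroup K), x ∈ L → Odd (Nat.card (pPrimeCore p L)) := by
    intro L hxL
    have h1 : Odd (Nat.card ((pPrimeCore p L).map L.subtype)) := by
      refine odd_of_not_fix2 hx hF ?_ ?_
      · rintro _ ⟨a, ha, rfl⟩
        exact ⟨⟨x, hxL⟩ * a * (⟨x, hxL⟩ : L)⁻¹, (Lib.Cores.pPrimeCore_normal p).conj_mem a ha _, rfl⟩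
      · rw [Subgroup.card_map_of_injective L.subtype_injective]
        exact (Nat.Prime.coprime_iff_not_dvd hp.out).1 (Lib.Cores.pPrimeCore_coprime (G := L) p).symm
    rwa [Subgroup.card_map_of_injective L.subtype_injective] at h1
  -- an involution
  obtain ⟨y, hy⟩ := exists_prime_orderOf_dvd_card' 2 h2K
  have hyy : y * y = 1 := by rw [← pow_two, ← hy, pow_orderOf_eq_one]
  have hy1 : y ≠ 1 := by
    rintro rfl
    rw [orderOf_one] at hy
    omega
  -- an involution `t` which normalises `⟨x⟩`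
  obtain ⟨t, htt, ht1, i, hti⟩ : ∃ t : K, t * t = 1 ∧ t ≠ 1 ∧ ∃ i : ℤ, t * x * t⁻¹ = x ^ i := by
    set H : Subgroup K := closure ({x, y} : Set K) with hH
    have hxH : x ∈ H := subset_closure (by simp)
    have hyH : y ∈ H := subset_closure (by simp)
    obtain ⟨k, hk, i, hi⟩ := key H (hT y hyy) hxH y hyH
    have hNn : (pPrimeCore p H).Normal := Lib.Cores.pPrimeCore_normal p
    obtain ⟨m, hm⟩ := hodd H hxH
    set π := QuotientGroup.mk' (pPrimeCore p H) with hπ
    set u : H := k * ⟨y, hyH⟩ with hu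
    have hπu : π u = π ⟨y, hyH⟩ := by
      have : π k = 1 := (QuotientGroup.eq_one_iff k).2 hk
      rw [hu, map_mul, this, one_mul]
    have hyy' : (⟨y, hyH⟩ : H) ^ 2 = 1 := Subtype.ext (by rw [pow_two]; exact hyy)
    have hu2 : u ^ 2 ∈ pPrimeCore p H := by
      rw [← QuotientGroup.eq_one_iff]
      have : π (u ^ 2) = 1 := by rw [map_pow, hπu, ← map_pow, hyy', map_one]
      exact this
    refine ⟨((u ^ Nat.card (pPrimeCore p H) : H) : K), ?_, ?_, i ^ Nat.card (pPrimeCore p H), ?_⟩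
    · have h1 : (u ^ Nat.card (pPrimeCore p H)) ^ 2 = 1 := by
        rw [← pow_mul, mul_comm, pow_mul]
        have h3 : orderOf (u ^ 2) ∣ Nat.card (pPrimeCore p H) := Subgroup.orderOf_dvd_natCard _ hu2
        exact orderOf_dvd_iff_pow_eq_one.1 h3
      rw [pow_two] at h1
      exact congrArg Subtype.val h1
    · intro h1
      have h3 : u ^ Nat.card (pPrimeCore p H) = 1 := Subtype.ext h1
      have h4 : π ⟨y, hyH⟩ = 1 := by
        have h5 : π (u ^ Nat.card (pPrimeCore p H)) = π ⟨y, hyH⟩ := by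
          rw [map_pow, hπu, hm, pow_succ, pow_mul, ← map_pow, hyy', map_one, one_pow, one_mul]
        rw [← h5, h3, map_one]
      have h5 : (⟨y, hyH⟩ : H) ∈ pPrimeCore p H := (QuotientGroup.eq_one_iff _).1 h4
      have h6 := Subgroup.orderOf_dvd_natCard _ h5
      rw [Subgroup.orderOf_mk, hy, hm] at h6
      omega
    · have h1 : ∀ n : ℕ, (u : K) ^ n * x * ((u : K) ^ n)⁻¹ = x ^ (i ^ n) := by
        intro n
        induction n with
        | zero => simp
        | succ n ih =>
          have e : (u : K) ^ (n + 1) * x * ((u : K) ^ (n + 1))⁻¹ = (u : K) ^ n * ((u : K) * x * (u : K)⁻¹) * ((u : K) ^ n)⁻¹ := by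
            rw [pow_succ]; group
          have hi' : (u : K) * x * (u : K)⁻¹ = x ^ i := hi
          rw [e, hi', ← conj_zpow, ih, ← zpow_mul, pow_succ]
      have := h1 (Nat.card (pPrimeCore p H))
      rw [Subgroup.coe_pow]
      exact this
  -- a conjugate of `t` which commutes with `t`
  obtain ⟨s, hss, hs1, hst, hne⟩ : ∃ s : K, s * s = 1 ∧ s ≠ 1 ∧ t * s = s * t ∧ s ≠ t := by
    by_contra hcon
    push Not at hcon
    have hiso : IsIsolatedInvolution t := by
      refine ⟨orderOf_eq_prime (by rw [pow_two]; exact htt) ht1, fun g hg => ?_⟩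
      refine hcon _ ?_ ?_ hg.eq
      · calc g * t * g⁻¹ * (g * t * g⁻¹) = g * (t * t) * g⁻¹ := by group
          _ = 1 := by rw [htt]; group
      · intro h
        apply ht1
        have : t = g⁻¹ * (g * t * g⁻¹) * g := by group
        rw [this, h]; group
    have hpt : IsPGroup 2 (zpowers t) := IsPGroup.of_card (n := 1) (by rw [Nat.card_zpowers, hiso.1, pow_one])
    obtain ⟨P, hP⟩ := hpt.exists_le_sylow
    have htP : t ∈ P := hP (mem_zpowers t)
    obtain ⟨N, hN, hodd, hcomm⟩ := Cfsg.Agent.S0215.result P t hiso.1 htP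
      (fun g hg => Cfsg.Agent.S1180.eq_of_conj_mem_isPGroup t hiso (P : Subgroup K) P.2 htP g hg)
    rcases hN.eq_bot_or_eq_top with h | h
    · have htc : t ∈ center K := by
        rw [mem_center_iff]
        intro g
        have := hcomm g
        rw [h, mem_bot] at this
        have h1 : t * g * t⁻¹ = g := mul_inv_eq_one.mp this
        rw [mul_inv_eq_iff_eq_mul] at h1
        exact h1.symm
      rw [center_eq_bot hna, mem_bot] at htc
      exact ht1 htc
    · rw [h, card_top] at hodd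
      rw [← Nat.not_even_iff_odd] at hodd
      exact hodd (even_iff_two_dvd.2 h2K)
  -- the solvable group `L = ⟨x, t, s⟩`
  have hsol := hT s hss
  set L : Subgroup K := closure ({x, s} : Set K) ⊔ zpowers t with hL
  have hxL : x ∈ L := mem_sup_left (subset_closure (by simp))
  have hsL : s ∈ L := mem_sup_left (subset_closure (by simp))
  have htL : t ∈ L := mem_sup_right (mem_zpowers t)
  have hLs : Group.IsSolvable L := by
    refine isSolvable_sup_zpowers hsol fun a ha => ?_
    have h1 : (closure ({x, s} : Set K)).map (MulAut.conj t).toMonoidHom ≤ closure ({x, s} : Set K) := by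
      rw [MonoidHom.map_closure, closure_le]
      rintro _ ⟨z, hz, rfl⟩
      rcases hz with rfl | rfl
      · change t * z * t⁻¹ ∈ closure ({z, s} : Set K)
        rw [hti]
        exact zpow_mem (subset_closure (by simp)) i
      · change t * z * t⁻¹ ∈ closure ({x, z} : Set K)
        rw [hst, mul_inv_cancel_right]
        exact subset_closure (by simp)
    exact h1 ⟨a, ha, rfl⟩
  have hNn : (pPrimeCore p L).Normal := Lib.Cores.pPrimeCore_normal p
  set π := QuotientGroup.mk' (pPrimeCore p L) with hπ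
  set X : L := ⟨x, hxL⟩ with hX
  -- `u` inverts `x` modulo the core
  have hinv : ∀ (u : K) (hu : u ∈ L), u * u = 1 → u ≠ 1 → π ⟨u, hu⟩ * π X * (π ⟨u, hu⟩)⁻¹ = (π X)⁻¹ := by
    intro u hu huu hu1
    obtain ⟨k, hk, j, hj⟩ := key L hLs hxL u hu
    have hπk : π k = 1 := (QuotientGroup.eq_one_iff k).2 hk
    have h1 : π ⟨u, hu⟩ * π X * (π ⟨u, hu⟩)⁻¹ = π X ^ j := by
      have h3 : (k * ⟨u, hu⟩) * X * (k * ⟨u, hu⟩)⁻¹ = X ^ j := Subtype.ext hj
      have h4 := congrArg π h3
      rw [map_mul, map_mul, map_mul, map_inv, map_mul, hπk, one_mul, map_zpow] at h4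
      exact h4
    have huu' : π ⟨u, hu⟩ * π ⟨u, hu⟩ = 1 := by
      rw [← map_mul]
      have : (⟨u, hu⟩ : L) * ⟨u, hu⟩ = 1 := Subtype.ext huu
      rw [this, map_one]
    have huinv : (π ⟨u, hu⟩)⁻¹ = π ⟨u, hu⟩ := inv_eq_of_mul_eq_one_left huu'
    -- `j ^ 2 = 1` modulo `p`
    have hXo : orderOf (π X) = p := by
      have h5 : orderOf X = p := by rw [hX, Subgroup.orderOf_mk]; exact hx
      refine orderOf_eq_prime ?_ ?_
      · have h9 : X ^ p = 1 := by
          have h10 := pow_orderOf_eq_one X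
          rwa [h5] at h10
        rw [← map_pow, h9, map_one]
      · intro h6
        have h7 : X ∈ pPrimeCore p L := (QuotientGroup.eq_one_iff _).1 h6
        have h8 := Subgroup.orderOf_dvd_natCard _ h7
        rw [h5] at h8
        exact (Nat.Prime.coprime_iff_not_dvd hp.out).1 (Lib.Cores.pPrimeCore_coprime (G := L) p).symm h8
    have h2 : π X ^ (j * j) = π X := by
      calc π X ^ (j * j) = (π ⟨u, hu⟩ * π X * (π ⟨u, hu⟩)⁻¹) ^ j := by rw [h1, ← zpow_mul]
        _ = π ⟨u, hu⟩ * π X ^ j * (π ⟨u, hu⟩)⁻¹ := conj_zpow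
        _ = π ⟨u, hu⟩ * (π ⟨u, hu⟩ * π X * (π ⟨u, hu⟩)⁻¹) * (π ⟨u, hu⟩)⁻¹ := by rw [h1]
        _ = (π ⟨u, hu⟩ * π ⟨u, hu⟩) * π X * ((π ⟨u, hu⟩)⁻¹ * (π ⟨u, hu⟩)⁻¹) := by group
        _ = π X := by rw [huinv, huu']; group
    have h3 : (p : ℤ) ∣ (j - 1) * (j + 1) := by
      have h4 : π X ^ (j * j - 1) = 1 := by rw [zpow_sub, zpow_one, h2, mul_inv_cancel]
      rw [← hXo]
      have h5 := orderOf_dvd_iff_zpow_eq_one.2 h4
      have e : (j - 1) * (j + 1) = j * j - 1 := by ring
      rwa [e]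
    rcases (Nat.prime_iff_prime_int.1 hp.out).dvd_or_dvd h3 with h4 | h4
    · -- `u` centralises `x` modulo the core
      exfalso
      apply hu1
      have h5 : π X ^ j = π X := by
        have h6 : π X ^ (j - 1) = 1 := orderOf_dvd_iff_zpow_eq_one.1 (by rw [hXo]; exact h4)
        rw [zpow_sub, zpow_one] at h6
        exact mul_inv_eq_one.1 h6
      have h6 : (⟨u, hu⟩ : L) = 1 := by
        refine eq_one_of_core hx hp2 hF hxL (k := 1) (Subtype.ext (by rw [pow_one, pow_two]; exact huu)) ?_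
        rw [← QuotientGroup.eq_one_iff]
        have h7 : π ((⟨u, hu⟩ : L)⁻¹ * (X * ⟨u, hu⟩ * X⁻¹)) = 1 := by
          rw [h5] at h1
          have h8 : π ⟨u, hu⟩ * π X = π X * π ⟨u, hu⟩ := mul_inv_eq_iff_eq_mul.1 h1
          rw [map_mul, map_mul, map_mul, map_inv, map_inv, ← h8]
          group
        exact h7
      exact congrArg Subtype.val h6
    · have h6 : π X ^ (j + 1) = 1 := orderOf_dvd_iff_zpow_eq_one.1 (by rw [hXo]; exact h4)
      rw [h1]
      rw [zpow_add, zpow_one] at h6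
      exact eq_inv_of_mul_eq_one_left h6
  have h1 := hinv t htL htt ht1
  have h3 := hinv s hsL hss hs1
  -- `t s` centralises `x` modulo the core
  have h4 : (⟨t, htL⟩ : L) * ⟨s, hsL⟩ = 1 := by
    refine eq_one_of_core hx hp2 hF hxL (k := 1) (Subtype.ext ?_) ?_
    · rw [pow_one, pow_two]
      change t * s * (t * s) = 1
      calc t * s * (t * s) = t * s * (s * t) := by rw [hst]
        _ = t * (s * s) * t := by group
        _ = 1 := by rw [hss, mul_one, htt]
    · rw [← QuotientGroup.eq_one_iff]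
      have h5 : π ((⟨t, htL⟩ * ⟨s, hsL⟩ : L)⁻¹ * (X * (⟨t, htL⟩ * ⟨s, hsL⟩) * X⁻¹)) = 1 := by
        have h6 : π ⟨t, htL⟩ * π ⟨s, hsL⟩ * π X * (π ⟨t, htL⟩ * π ⟨s, hsL⟩)⁻¹ = π X := by
          calc π ⟨t, htL⟩ * π ⟨s, hsL⟩ * π X * (π ⟨t, htL⟩ * π ⟨s, hsL⟩)⁻¹ =
              π ⟨t, htL⟩ * (π ⟨s, hsL⟩ * π X * (π ⟨s, hsL⟩)⁻¹) * (π ⟨t, htL⟩)⁻¹ := by group
            _ = (π ⟨t, htL⟩ * π X * (π ⟨t, htL⟩)⁻¹)⁻¹ := by rw [h3]; group
            _ = π X := by rw [h1, inv_inv]
        have h8 : π ⟨t, htL⟩ * π ⟨s, hsL⟩ * π X = π X * (π ⟨t, htL⟩ * π ⟨s, hsL⟩) := mul_inv_eq_iff_eq_mul.1 h6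
        rw [map_mul, map_mul, map_mul, map_inv, map_inv, map_mul, ← h8]
        group
      exact h5
  apply hne
  have h5 : t * s = 1 := congrArg Subtype.val h4
  have h6 : s = t⁻¹ := (inv_eq_of_mul_eq_one_right h5).symm
  rw [h6]
  exact inv_eq_of_mul_eq_one_left htt

end Cfsg.Agent.H959.T5
end

-- part: H959/T5/Tools
section
/-!
# S3854, elements of prime order `p ≥ 5`: more criteria (helper959)

* `not_fix2_num`, `NoTE.of_num` : the V4 trick from Theorem O or from the order of `2` modulo `p`;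
* `NoTE.of_vfour` : the V4 trick for all `x`; `NoTE.of_pair` : cyclic Sylow `p`-subgroups, one pair; `blk`;
* `false_of_crow_odd` : groups of Lie type of odd characteristic (`CRow` of S3846 and Gow's theorem);
* `noT_lie` : groups of Lie type of rank at least two, from the rows of S3829 and S3846.
-/

set_option autoImplicit false
set_option linter.unusedSectionVars false

namespace Cfsg.Agent.H959.T5

open Cfsg Subgroup Cfsg.Agent.H459.Rad Cfsg.Agent.H459.Iface Cfsg.Agent.SignalizersComponents.ComponentExists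
open Cfsg.Agent.H301.SY Cfsg.Agent.H959.Rad3

variable {K : Type*} [Group K] [Finite K] {p : ℕ} [hp : Fact p.Prime]

/-- the V4 trick for `TE` -/
theorem false_of_not_fix2 [IsSimpleGroup K] (hna : ¬ IsMulCommutative K) (h2K : 2 ∣ Nat.card K) (hp2 : p ≠ 2)
    (hcyc : ∀ P : Sylow p K, IsCyclic (P : Subgroup K)) {x : K} (hx : orderOf x = p) (hT : TE x)
    (hF : ¬ FixR 2 (MulAut.conj x)) : False :=
  vfour hna h2K hp2 hcyc hx hF fun _ hy => hT _ ⟨1, by rw [pow_one, pow_two, hy]⟩

/-- **one pair is enough** if the Sylow `p`-subgroups are cyclic -/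
theorem NoTE.of_pair (hcyc : ∀ P : Sylow p K, IsCyclic (P : Subgroup K)) {x₀ y₀ : K} (hx₀ : orderOf x₀ = p)
    (hy₀ : ∃ k : ℕ, y₀ ^ 2 ^ k = 1) (hns : ¬ Group.IsSolvable ↥(closure ({x₀, y₀} : Set K))) : NoTE p K := by
  intro x hx _ hT
  obtain ⟨g, hg⟩ := exists_conj_mem hcyc hx (L := zpowers x₀) (by rw [Nat.card_zpowers, hx₀])
  have ho : orderOf (g * x * g⁻¹) = p := by
    rw [← hx]
    exact orderOf_injective (MulAut.conj g).toMonoidHom (MulAut.conj g).injective x
  have h1 : zpowers (g * x * g⁻¹) = zpowers x₀ := by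
    refine Subgroup.eq_of_le_of_card_ge (zpowers_le.2 hg) ?_
    rw [Nat.card_zpowers, Nat.card_zpowers, hx₀, ho]
  apply hns
  refine isSolvable_of_le ?_ (hT.conj g y₀ hy₀)
  rw [closure_le]
  rintro z (rfl | rfl)
  · have h2 : z ∈ zpowers (g * x * g⁻¹) := by rw [h1]; exact mem_zpowers z
    exact (zpowers_le.2 (subset_closure (by simp))) h2
  · exact subset_closure (by simp)

/-- the V4 trick for all `x` -/
theorem NoTE.of_vfour [IsSimpleGroup K] (hna : ¬ IsMulCommutative K) (h2K : 2 ∣ Nat.card K) (hp2 : p ≠ 2)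
    (hcyc : ∀ P : Sylow p K, IsCyclic (P : Subgroup K))
    (h : ∀ x : K, orderOf x = p → RE x → ¬ FixR 2 (MulAut.conj x)) : NoTE p K :=
  fun x hx hR hT => false_of_not_fix2 hna h2K hp2 hcyc hx hT (h x hx hR)

/-- `x` normalises no non-trivial `2`-subgroup: numerical conditions -/
theorem not_fix2_num (hcyc : ∀ P : Sylow p K, IsCyclic (P : Subgroup K)) (hO : ThO p K) (hp2 : p ≠ 2) {x : K}
    (hx : orderOf x = p) (hR : RE x) (hC : ¬ 2 ∣ Nat.card (centralizer ({x} : Set K)))
    (h : (∀ i : ℕ, 0 < i → 2 ^ i ∣ Nat.card K → ¬ 2 ^ i ≡ 1 [MOD p]) ∨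
      (∃ T : Sylow 2 K, ∀ a j n : ℕ,
        Nat.card T = 2 ^ (a + j) → p ∣ 2 ^ a - 1 → 2 ^ j ∣ p - 1 → 0 < n → p ∣ 2 ^ n - 1 → n ≤ a →
        (∃ W : Subgroup K, W ≤ T ∧ (∀ w ∈ W, ∀ u ∈ (T : Subgroup K), w * u = u * w) ∧ (∀ w ∈ W, w ^ 2 = 1) ∧
          2 ^ n ≤ Nat.card W ^ (2 ^ j)) → False)) : ¬ FixR 2 (MulAut.conj x) := by
  rintro ⟨R, hR0, hR2, hxR⟩
  have hxR' : ∀ a ∈ R, x * a * x⁻¹ ∈ R := hxR
  rcases h with h | ⟨T, h⟩
  · have h1 := centralises_of_card hx Nat.prime_two (Ne.symm hp2) h hR2 hxR'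
    have : Fact (Nat.Prime 2) := ⟨Nat.prime_two⟩
    have hnt : Nontrivial R := (Subgroup.nontrivial_iff_ne_bot R).2 hR0
    obtain ⟨n, hn0, hn⟩ := (IsPGroup.nontrivial_iff_card hR2).1 hnt
    have hle : R ≤ centralizer ({x} : Set K) := by
      intro a ha
      rw [mem_centralizer_iff]
      intro y hy
      rw [Set.mem_singleton_iff.1 hy]
      exact h1 a ha
    apply hC
    refine dvd_trans ?_ (Subgroup.card_dvd_of_le hle)
    rw [hn]
    exact dvd_pow_self 2 hn0.ne'
  · obtain ⟨a, j, n, h3, h4, h5, h6, h7, h8, h9⟩ := hO hcyc 2 Nat.prime_two (Ne.symm hp2) x hx hR hC R hR0 hR2 hxR' T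
    exact h a j n h3 h4 h5 h6 h7 h8 h9

/-- **the V4 trick from numerical conditions** -/
theorem NoTE.of_num [IsSimpleGroup K] (hna : ¬ IsMulCommutative K) (h2K : 2 ∣ Nat.card K) (hp2 : p ≠ 2)
    (hcyc : ∀ P : Sylow p K, IsCyclic (P : Subgroup K)) (hO : ThO p K)
    (hC : ∀ x : K, orderOf x = p → ¬ 2 ∣ Nat.card (centralizer ({x} : Set K)))
    (h : (∀ i : ℕ, 0 < i → 2 ^ i ∣ Nat.card K → ¬ 2 ^ i ≡ 1 [MOD p]) ∨
      (∃ T : Sylow 2 K, ∀ a j n : ℕ,
        Nat.card T = 2 ^ (a + j) → p ∣ 2 ^ a - 1 → 2 ^ j ∣ p - 1 → 0 < n → p ∣ 2 ^ n - 1 → n ≤ a →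
        (∃ W : Subgroup K, W ≤ T ∧ (∀ w ∈ W, ∀ u ∈ (T : Subgroup K), w * u = u * w) ∧ (∀ w ∈ W, w ^ 2 = 1) ∧
          2 ^ n ≤ Nat.card W ^ (2 ^ j)) → False)) : NoTE p K :=
  NoTE.of_vfour hna h2K hp2 hcyc fun x hx hR => not_fix2_num hcyc hO hp2 hx hR (hC x hx) h

/-- **the block lemma** -/
theorem blk {K : Type*} [Group K] [Finite K] [IsSimpleGroup K] (hna : ¬ IsMulCommutative K) {p : ℕ} [hp : Fact p.Prime] :
    Blk p K := by
  intro hcyc x y hx hy h
  obtain ⟨P⟩ : Nonempty (Sylow p K) := inferInstance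
  have h1 := Cfsg.Agent.H509.CycBlock.order_dvd_of_solvable_pairs hna P (hcyc P) hx hy h
  have h2 : (centralizer ({x} : Set K)).relIndex (normalizer ((zpowers x : Subgroup K) : Set K)) ∣ p - 1 := by
    have h3 : centralizer ({x} : Set K) = centralizer ((zpowers x : Subgroup K) : Set K) := by
      rw [zpowers_eq_closure, centralizer_closure]
    have h4 : Nat.card (MulAut (zpowers x)) = p - 1 := by
      rw [IsCyclic.card_mulAut, Nat.card_zpowers, hx, Nat.totient_prime hp.out]
    rw [h3, relIndex, ← normalizerMonoidHom_ker, index_ker, ← h4]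
    exact Subgroup.card_subgroup_dvd_card _
  obtain ⟨k, hk⟩ := h2
  rw [hk, pow_mul, h1, one_pow]

/-- **groups of Lie type of odd characteristic** `r ≠ p` -/
theorem false_of_crow_odd [IsSimpleGroup K] (hna : ¬ IsMulCommutative K) (h2K : 2 ∣ Nat.card K) {r : ℕ}
    [hr : Fact r.Prime] (hr2 : r ≠ 2) (hp2 : p ≠ 2) (hg : Gw r K) {x : K} (hx : orderOf x = p) (hT : TE x)
    (hcyc : ∀ P : Sylow p K, IsCyclic (P : Subgroup K)) (hF : ¬ FixR r (MulAut.conj x)) (h : M0 x ∨ Zc r p K) :
    False := by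
  rcases h with h | hZ
  · exact m0_false hna h2K hx hT h
  have h2p : 2 ∣ p - 1 := by
    rcases hp.out.even_sub_one hp2 with ⟨k, hk⟩
    omega
  obtain ⟨z, hz1, hzr, hzc⟩ := hZ 2 Nat.prime_two h2p (Ne.symm hr2)
  have : Fact (Nat.Prime 2) := ⟨Nat.prime_two⟩
  obtain ⟨y, hy⟩ := exists_prime_orderOf_dvd_card' 2 h2K
  have hy1 : y ≠ 1 := by
    rintro rfl
    rw [orderOf_one] at hy
    omega
  obtain ⟨g, k, h2⟩ := hg x z y (not_dvd_of_not_fixR hF) hzr hy1 (by
    rw [hy]
    intro h3
    exact hr2 ((Nat.prime_dvd_prime_iff_eq hr.out Nat.prime_two).1 h3))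
  have h3 := hT (g⁻¹ * y * g⁻¹⁻¹) ⟨1, by
    rw [pow_one, conj_pow, ← hy, pow_orderOf_eq_one, mul_one, mul_inv_cancel]⟩
  have ho : orderOf (g⁻¹ * y * g⁻¹⁻¹) = 2 := by
    rw [← hy]
    exact orderOf_injective (MulAut.conj g⁻¹).toMonoidHom (MulAut.conj g⁻¹).injective y
  apply not_coprime_of_solvable hcyc hx Nat.prime_two (Ne.symm hp2) ho h3
  have h4 : x⁻¹ * (g⁻¹ * y * g⁻¹⁻¹) = (g⁻¹ * k) * z * (g⁻¹ * k)⁻¹ := by
    rw [← h2]
    group
  have h5 : orderOf ((g⁻¹ * k) * z * (g⁻¹ * k)⁻¹) = orderOf z :=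
    orderOf_injective (MulAut.conj (g⁻¹ * k)).toMonoidHom (MulAut.conj (g⁻¹ * k)).injective z
  rw [h4, h5]
  exact hzc

/-- **groups of Lie type of rank at least two** : `hN` is `nf_of_isBig`, `hc` is `cyc_of_isBig`, `hrow` the rows of
S3846 -/
theorem noT_lie [IsSimpleGroup K] (hna : ¬ IsMulCommutative K) (h2K : 2 ∣ Nat.card K) {r : ℕ}
    [hr : Fact r.Prime] (hp2 : p ≠ 2) (hN : ∀ x : MulAut K, orderOf x = p → RC x → FixR r x → False)
    (hc : ∀ x : MulAut K, orderOf x = p → RC x → p ≠ r ∧ Cfsg.Agent.H459.Iface.Cyc p x) (hg : r ≠ 2 → Gw r K)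
    (hrow : r ≠ 2 → p ≠ r → CRow r p K) : NoT p K := by
  intro x hx hR hT
  obtain ⟨hpr, ⟨y, rfl⟩, hcyc⟩ := hc x hx hR
  have hZ := center_eq_bot hna
  have hy : orderOf y = p := by
    rw [← hx]
    exact (orderOf_injective (MulAut.conj : K →* MulAut K) (conj_injective hZ) y).symm
  have hF : ¬ FixR r (MulAut.conj y) := hN _ hx hR
  have hTE : TE y := TE.of_t2 hZ hT
  by_cases hr2 : r = 2
  · subst hr2
    exact false_of_not_fix2 hna h2K hp2 hcyc hy hTE hF
  · rcases hrow hr2 hpr y hy hR hcyc with h | h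
    · exact hF h
    · exact false_of_crow_odd hna h2K hr2 hp2 (hg hr2) hy hTE hcyc hF h

end Cfsg.Agent.H959.T5
end
end

-- part: H51/SY/Num
section
set_option linter.all false
open scoped Cfsg.Agent.FastGrp

/-!
# S3846: numerical conditions for the sporadic rows (helper51)
-/

set_option autoImplicit false

namespace Cfsg.Agent.H51.SY

open Subgroup Cfsg.Agent.H301.SY Cfsg.Agent.H459.Rad

theorem noE_of_not_dvd {K : Type*} [Group K] {p : ℕ} (h : ¬ p ∣ Nat.card K) : NoE p K :=
  fun x hx _ _ => h (hx ▸ orderOf_dvd_natCard x)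

/-- the order of `t` modulo `p` is large -/
theorem cond_order {p t N v : ℕ} (hv : ¬ t ^ (v + 1) ∣ N) (h : ∀ i ∈ Finset.Icc 1 v, ¬ t ^ i ≡ 1 [MOD p]) (i : ℕ)
    (hi : 0 < i) (hd : t ^ i ∣ N) : ¬ t ^ i ≡ 1 [MOD p] := by
  refine h i (Finset.mem_Icc.2 ⟨hi, ?_⟩)
  by_contra h1
  exact hv ((pow_dvd_pow t (by omega)).trans hd)

/-- `M0` for all elements if for all prime divisors of `p - 1` the order is large -/
theorem noE_of_order {K : Type*} [Group K] [Finite K] [IsSimpleGroup K] (hna : ¬ IsMulCommutative K) {p : ℕ}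
    [Fact p.Prime] (hcard : ¬ p ^ 2 ∣ Nat.card K) (hb : Blk p K) (hO : ThO p K)
    (h : ∀ t : ℕ, t.Prime → t ∣ p - 1 → ∀ i : ℕ, 0 < i → t ^ i ∣ Nat.card K → ¬ t ^ i ≡ 1 [MOD p]) : NoE p K :=
  NoE.of_m0 hna (cyclic_of_card hcard) fun _ hx hR hY =>
    m0_num (cyclic_of_card hcard) hb hO hx hR hY fun t ht _ htd => Or.inl (h t ht htd)

theorem not_comm_of_card {K : Type*} [Group K] [IsSimpleGroup K] (h : ¬ (Nat.card K).Prime) :
    ¬ IsMulCommutative K := by
  intro hm
  apply h
  let _ : CommGroup K := { (inferInstance : Group K) with mul_comm := hm.1.1 }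
  exact IsSimpleGroup.prime_card

/-- a proper subgroup of index prime to `p` with radical of order prime to `p` -/
theorem noE_of_index {K : Type*} [Group K] [Finite K] {p : ℕ} [hp : Fact p.Prime] {L : Subgroup K} (hL : L ≠ ⊤)
    (hi : ¬ p ∣ L.index) (hr : ¬ p ∣ Nat.card (radIn L)) : NoE p K := by
  obtain ⟨S⟩ : Nonempty (Sylow p L) := inferInstance
  have hS : IsPGroup p ↥((S : Subgroup L).map L.subtype) := S.isPGroup'.map _
  have hc : ¬ p ∣ ((S : Subgroup L).map L.subtype).index := by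
    rw [Subgroup.index_map_subtype]
    intro h1
    rcases (Nat.Prime.dvd_mul hp.out).1 h1 with h2 | h2
    · exact S.not_dvd_index h2
    · exact hi h2
  refine NoE.of_sylow (L := L) hL (hS.toSylow hc) ?_ hr
  change (S : Subgroup L).map L.subtype ≤ L
  exact map_subtype_le _

/-- the radical of a non-abelian simple group -/
theorem card_radIn_of_simple {K : Type*} [Group K] [Finite K] {p : ℕ} (hp : p.Prime) {L : Subgroup K}
    [IsSimpleGroup L] (h : ¬ (Nat.card L).Prime) : ¬ p ∣ Nat.card (radIn L) := by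
  have h2 : solvableRadical L = ⊥ := rad_eq_bot_of_simple fun hsol =>
    not_comm_of_card h ⟨⟨fun a b => IsSimpleGroup.comm_iff_isSolvable.2 hsol a b⟩⟩
  unfold radIn
  rw [h2, Subgroup.map_bot, card_bot]
  exact fun h3 => hp.one_lt.ne' (Nat.dvd_one.1 h3)

end Cfsg.Agent.H51.SY
end

-- part: H305/YJ1_mg
section
prune_inst 0x4000100000000000000000000440000000000000000000000000000000010000000030000200010080200008800000000009000000002000820040000000040026c000400008800000408800000000000000000000000000000000000000000000000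
set_option linter.all false
open scoped Cfsg.Agent.FastGrp

-- part: H305/YJ1
section
/-!
# Row `J1` of S3846 (helper305)
-/

set_option autoImplicit false
set_option linter.style.haveILetI false
set_option linter.unusedSectionVars false
set_option linter.unusedVariables false

namespace Cfsg.Agent.H305.YJ1

open Subgroup Cfsg.Agent.H301.SY Cfsg.Agent.SignalizersComponents.ComponentExists

section Gen

variable {K L : Type*} [Group K] [Group L]

theorem closure_equiv (e : K ≃* L) (x y : K) :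
    (_root_.Subgroup.closure ({x, y} : Set K)).map e.toMonoidHom = _root_.Subgroup.closure ({e x, e y} : Set L) := by
  rw [MonoidHom.map_closure, Set.image_pair]
  rfl

theorem solvable_equiv [Finite K] [Finite L] (e : K ≃* L) {x y : K}
    (h : Group.IsSolvable ↥(_root_.Subgroup.closure ({e x, e y} : Set L))) : Group.IsSolvable ↥(_root_.Subgroup.closure ({x, y} : Set K)) := by
  rw [← closure_equiv] at h
  exact Group.isSolvable_of_isSolvable_injective
    (f := ((_root_.Subgroup.closure ({x, y} : Set K)).equivMapOfInjective e.toMonoidHom e.injective).toMonoidHom)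
    (MulEquiv.injective _)

/-- the block lemma is invariant under isomorphisms -/
theorem blk_congr [Finite K] [Finite L] {p : ℕ} [Fact p.Prime] (e : K ≃* L) (h : Blk p K) : Blk p L := by
  intro hcyc x y hx hy hs
  have h1 : ∀ P : Sylow p K, IsCyclic (P : Subgroup K) := by
    intro P
    obtain ⟨Q, hQ⟩ := (P.isPGroup'.map e.toMonoidHom).exists_le_sylow
    have := hcyc Q
    have h2 : IsCyclic ↥((P : Subgroup K).map e.toMonoidHom) :=
      isCyclic_of_injective (Subgroup.inclusion hQ) (Subgroup.inclusion_injective hQ)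
    exact isCyclic_of_injective
      ((P : Subgroup K).equivMapOfInjective e.toMonoidHom e.injective).toMonoidHom (MulEquiv.injective _)
  have ho : ∀ z : L, orderOf (e.symm z) = orderOf z := fun z => orderOf_injective e.symm.toMonoidHom e.symm.injective z
  have h2 := h h1 (e.symm x) (e.symm y) (by rw [ho, hx]) (by rwa [ho]) (fun g => by
    apply solvable_equiv e
    have h3 := hs (e g)
    rw [map_mul, map_mul, map_inv, e.apply_symm_apply, e.apply_symm_apply]
    exact h3)
  have h3 := congrArg e h2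
  simpa only [_root_.map_pow, _root_.MulEquiv.apply_symm_apply, _root_.map_one] using h3

/-- the number of conjugates of an element -/
theorem card_conj_mul [Finite K] (g : K) :
    Nat.card (conjugatesOf g) * Nat.card (centralizer ({g} : Set K)) = Nat.card K := by
  classical
  have h1 : conjugatesOf g = MulAction.orbit (ConjAct K) g := by
    ext x
    rw [ConjAct.mem_orbit_conjAct, isConj_comm]
    rfl
  have h2 := Nat.card_congr (MulAction.orbitProdStabilizerEquivGroup (ConjAct K) g)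
  rw [Nat.card_prod, ← h1] at h2
  have h3 : Nat.card (MulAction.stabilizer (ConjAct K) g) = Nat.card (centralizer ({g} : Set K)) := by
    rw [ConjAct.stabilizer_eq_centralizer]
    rfl
  rw [← h3, h2]
  rfl

end Gen

/-- the facts which are used -/
structure D (G : Type*) [Group G] : Prop where
  fin : Finite G
  card : Nat.card G = 175560
  cent7 : ∀ x : G, orderOf x = 7 → Nat.card (centralizer ({x} : Set G)) = 7
  norm7 : ∀ x : G, orderOf x = 7 → Nat.card (normalizer ((zpowers x : Subgroup G) : Set G)) = 42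
  syl2 : ∀ P : Sylow 2 G, Nat.card (P : Subgroup G) = 8
  norm2 : ∀ P : Sylow 2 G, 7 ∣ Nat.card (normalizer ((P : Subgroup G) : Set G))
  conj2 : ∀ x y : G, orderOf x = 2 → orderOf y = 2 → ∃ g : G, g * x * g⁻¹ = y
  cent2 : ∀ x : G, orderOf x = 2 → Nat.card (centralizer ({x} : Set G)) = 120

section JOne

variable {G : Type*} [Group G]

theorem not_sq (d : D G) {p : ℕ} (hp : p = 5 ∨ p = 7 ∨ p = 11 ∨ p = 19) : ¬ p ^ 2 ∣ Nat.card G := by
  rw [d.card]
  rcases hp with rfl | rfl | rfl | rfl <;> decide +kernel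

/-- `M0` by the orders of the primes -/
theorem m0 (d : D G) {p : ℕ} [Fact p.Prime] (hp : p = 5 ∨ p = 11 ∨ p = 19) (hb : Blk p G) {x : G} (hx : orderOf x = p)
    (hY : YE p x) : M0 x := by
  haveI := d.fin
  have hcyc : ∀ P : Sylow p G, IsCyclic (P : Subgroup G) := cyclic_of_card (not_sq d (by (clear * - hp; tauto)))
  refine M0.of_triv_blk hcyc hb hx hY fun t ht htp htd R hRt hxR => ?_
  have key : ∀ i : ℕ, 0 < i → t ^ i ∣ Nat.card G → ¬ t ^ i ≡ 1 [MOD p] := by
    intro i hi h1 h2
    have hcard := d.card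
    rw [hcard] at h1
    have hi4 : t ^ i ∣ 175560 := h1
    rcases hp with rfl | rfl | rfl
    · have : t = 2 := by
        have h3 : t ∣ 2 ^ 2 := htd
        exact (Nat.prime_dvd_prime_iff_eq ht Nat.prime_two).1 (ht.dvd_of_dvd_pow h3)
      subst this
      have h4 : i ≤ 3 := by
        by_contra h5
        have h6 : (2 : ℕ) ^ 4 ∣ 175560 := (pow_dvd_pow 2 (by omega)).trans h1
        revert h6
        decide +kernel
      interval_cases i <;> revert h2 <;> decide
    · have h3 : t ∣ 2 * 5 := htd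
      rcases (ht.dvd_mul).1 h3 with h4 | h4
      · have := (Nat.prime_dvd_prime_iff_eq ht Nat.prime_two).1 h4
        subst this
        have h4 : i ≤ 3 := by
          by_contra h5
          have h6 : (2 : ℕ) ^ 4 ∣ 175560 := (pow_dvd_pow 2 (by omega)).trans h1
          revert h6
          decide +kernel
        interval_cases i <;> revert h2 <;> decide
      · have := (Nat.prime_dvd_prime_iff_eq ht Nat.prime_five).1 h4
        subst this
        have h4 : i ≤ 1 := by
          by_contra h5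
          have h6 : (5 : ℕ) ^ 2 ∣ 175560 := (pow_dvd_pow 5 (by omega)).trans h1
          revert h6
          decide +kernel
        interval_cases i
        revert h2
        decide
    · have h3 : t ∣ 2 * 3 ^ 2 := htd
      rcases (ht.dvd_mul).1 h3 with h4 | h4
      · have := (Nat.prime_dvd_prime_iff_eq ht Nat.prime_two).1 h4
        subst this
        have h4 : i ≤ 3 := by
          by_contra h5
          have h6 : (2 : ℕ) ^ 4 ∣ 175560 := (pow_dvd_pow 2 (by omega)).trans h1
          revert h6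
          decide +kernel
        interval_cases i <;> revert h2 <;> decide
      · have := (Nat.prime_dvd_prime_iff_eq ht Nat.prime_three).1 (ht.dvd_of_dvd_pow h4)
        subst this
        have h4 : i ≤ 1 := by
          by_contra h5
          have h6 : (3 : ℕ) ^ 2 ∣ 175560 := (pow_dvd_pow 3 (by omega)).trans h1
          revert h6
          decide +kernel
        interval_cases i
        revert h2
        decide
  exact centralises_of_card hx ht htp key hRt hxR

/-- an `x`-invariant `t`-subgroup, `t ≠ 7` : trivial or a Sylow 2-subgroup -/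
theorem inv_sub (d : D G) [Fact (Nat.Prime 7)] (hb : Blk 7 G) {x : G} (hx : orderOf x = 7) (hY : YE 7 x) {t : ℕ} (ht : t.Prime)
    (ht7 : t ≠ 7) {R : Subgroup G} (hRt : IsPGroup t R) (hxR : ∀ a ∈ R, x * a * x⁻¹ ∈ R) (hR : R ≠ ⊥) :
    t = 2 ∧ Nat.card R = 8 := by
  haveI := d.fin
  haveI := Fact.mk ht
  have hcyc : ∀ P : Sylow 7 G, IsCyclic (P : Subgroup G) := cyclic_of_card (not_sq d (by (clear * -; tauto)))
  have hcard := d.card
  have hnc : ¬ ∀ a ∈ R, x * a = a * x := by
    intro h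
    apply hR
    have h1 : R ≤ centralizer ({x} : Set G) := by
      intro a ha
      rw [mem_centralizer_iff]
      intro y hy
      rw [Set.mem_singleton_iff.1 hy, h a ha]
    have h2 := card_dvd_of_le h1
    rw [d.cent7 x hx] at h2
    obtain ⟨n, hn⟩ := hRt.exists_card_eq
    have h3 : n = 0 := by
      by_contra h4
      exact ht7 ((Nat.prime_dvd_prime_iff_eq ht Fact.out).1 (((dvd_pow_self t h4).trans (dvd_of_eq hn.symm)).trans h2))
    rw [h3, pow_zero] at hn
    exact eq_bot_of_card_eq _ hn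
  -- `t` divides 6
  have ht6 : t ∣ 6 := by
    by_contra htd
    apply hnc
    intro a ha
    have h1 : a ^ (7 - 1) = 1 := by
      refine pow_eq_one_of_blk hcyc hb hx hY ht ht7 ?_ (isSolvable_pair (isSolvable_of_isPGroup hRt) hxR ha)
      obtain ⟨k, hk⟩ := (IsPGroup.iff_orderOf.1 hRt) ⟨a, ha⟩
      exact ⟨k, by rw [← hk, Subgroup.orderOf_mk]⟩
    obtain ⟨k, hk⟩ := (IsPGroup.iff_orderOf.1 hRt) ⟨a, ha⟩
    rw [Subgroup.orderOf_mk] at hk
    have h2 : orderOf a ∣ 6 := orderOf_dvd_of_pow_eq_one h1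
    have h3 : orderOf a = 1 := by
      rw [hk] at h2 ⊢
      rcases Nat.eq_zero_or_pos k with h4 | h4
      · rw [h4, pow_zero]
      · exact absurd ((dvd_pow_self t h4.ne').trans h2) htd
    rw [orderOf_eq_one_iff] at h3
    rw [h3, mul_one, one_mul]
  have h3 : t ∣ 2 * 3 := ht6
  have ht2 : t = 2 := by
    rcases (ht.dvd_mul).1 h3 with h4 | h4
    · exact (Nat.prime_dvd_prime_iff_eq ht Nat.prime_two).1 h4
    · exfalso
      have := (Nat.prime_dvd_prime_iff_eq ht Nat.prime_three).1 h4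
      subst this
      apply hnc
      refine centralises_of_card hx ht ht7 ?_ hRt hxR
      intro i hi h1 h2
      rw [hcard] at h1
      have h4 : i ≤ 1 := by
        by_contra h5
        have h6 : (3 : ℕ) ^ 2 ∣ 175560 := (pow_dvd_pow 3 (by omega)).trans h1
        revert h6
        decide +kernel
      interval_cases i
      revert h2
      decide
  refine ⟨ht2, ?_⟩
  subst ht2
  obtain ⟨n, hn⟩ := hRt.exists_card_eq
  have h8 : Nat.card R ∣ 175560 := by rw [← hcard]; exact card_subgroup_dvd_card R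
  have hn3 : n ≤ 3 := by
    by_contra h5
    have h6 : (2 : ℕ) ^ 4 ∣ 175560 := (pow_dvd_pow 2 (by omega)).trans (hn ▸ h8)
    revert h6
    decide +kernel
  by_contra h9
  apply hnc
  have h10 : n ≤ 2 := by
    by_contra h11
    apply h9
    rw [hn, (by omega : n = 3)]
    rfl
  -- the fixed points have index 1
  have hxp : x ^ 7 = 1 := by rw [← hx]; exact pow_orderOf_eq_one x
  have hpR : ¬ 7 ∣ Nat.card R := by
    rw [hn]
    interval_cases n <;> decide
  have h1 := index_fixed hpR (cjA R x hxR) ⟨1, by rw [pow_one]; exact cjA_pow R x hxR hxp⟩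
  have h12 : (fixS (cjA R x hxR)).index ∣ 2 ^ n := by rw [← hn]; exact Subgroup.index_dvd_card _
  obtain ⟨i, hi, h13⟩ := (Nat.dvd_prime_pow Nat.prime_two).1 h12
  rw [h13] at h1
  have h14 : i = 0 := by
    have h15 : i ≤ 2 := by omega
    interval_cases i
    · rfl
    · revert h1; decide
    · revert h1; decide
  rw [h14, pow_zero, Subgroup.index_eq_one] at h13
  intro a ha
  have h3 : (⟨a, ha⟩ : R) ∈ fixS (cjA R x hxR) := by rw [h13]; exact mem_top _
  have h4 : x * a * x⁻¹ = a := by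
    have h5 := congrArg Subtype.val (mem_fixS.1 h3)
    rwa [cjA_coe] at h5
  calc x * a = (x * a * x⁻¹) * x := by group
    _ = a * x := by rw [h4]

/-- an involution `y` with `⟨x, y⟩` solvable normalises `⟨x⟩` or lies in an `x`-invariant Sylow 2-subgroup -/
theorem dich (d : D G) [Fact (Nat.Prime 7)] (hb : Blk 7 G) {x : G} (hx : orderOf x = 7) (hY : YE 7 x) {y : G}
    (hy : orderOf y = 2) (hs : Group.IsSolvable ↥(Subgroup.closure ({x, y} : Set G))) :
    y ∈ normalizer ((zpowers x : Subgroup G) : Set G) ∨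
      ∃ R : Subgroup G, Nat.card R = 8 ∧ (∀ a ∈ R, x * a * x⁻¹ ∈ R) ∧ y ∈ R := by
  haveI := d.fin
  have hcyc : ∀ P : Sylow 7 G, IsCyclic (P : Subgroup G) := cyclic_of_card (not_sq d (by (clear * -; tauto)))
  have hxp : x ^ 7 = 1 := by rw [← hx]; exact pow_orderOf_eq_one x
  have hxH : x ∈ Subgroup.closure ({x, y} : Set G) := Subgroup.subset_closure (by simp)
  have hyH : y ∈ Subgroup.closure ({x, y} : Set G) := Subgroup.subset_closure (by simp)
  obtain ⟨N, hNH, hNn, hpN, hk⟩ := cyc_core' hcyc hx hs hxH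
  by_cases hN : N = ⊥
  · left
    obtain ⟨k, n, hn, h1⟩ := hk y hyH
    rw [hN, mem_bot] at hn
    rw [hn, mul_one] at h1
    refine mem_norm ?_
    exact mem_normalizer_zpowers (h1 ▸ zpow_mem (mem_zpowers x) k)
  · right
    -- `N` is a 2-group
    have h2 : Nat.card N = 2 ^ (Nat.card N).factorization 2 := by
      refine Nat.eq_of_factorization_eq Nat.card_pos.ne' (by positivity) fun t => ?_
      rw [Nat.factorization_pow, Nat.prime_two.factorization]
      simp only [Finsupp.smul_apply, smul_eq_mul]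
      by_cases ht : t.Prime
      swap
      · rw [Nat.factorization_eq_zero_of_not_prime _ ht, Finsupp.single_apply,
          if_neg (by rintro rfl; exact ht Nat.prime_two), mul_zero]
      by_cases ht2 : t = 2
      · rw [ht2, Finsupp.single_eq_same, mul_one]
      rw [Finsupp.single_apply, if_neg (fun h => ht2 h.symm), mul_zero]
      by_cases ht7 : t = 7
      · rw [ht7]
        exact Nat.factorization_eq_zero_of_not_dvd hpN
      obtain ⟨S, hSN, hSt, hSc, hSx⟩ := exists_sylow_in hxp (hNn x hxH) hpN ht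
      by_cases hS : S = ⊥
      · rw [hS, card_bot] at hSc
        by_contra h0
        exact absurd hSc (Nat.one_lt_pow h0 ht.one_lt).ne
      · exact absurd (inv_sub d hb hx hY ht ht7 hSt hSx hS).1 ht2
    have hN2 : IsPGroup 2 N := IsPGroup.of_card h2
    obtain ⟨-, h8⟩ := inv_sub d hb hx hY Nat.prime_two (by norm_num) hN2 (hNn x hxH) hN
    refine ⟨N, h8, hNn x hxH, ?_⟩
    -- `N` is a Sylow 2-subgroup
    haveI := Fact.mk Nat.prime_two
    have hyN : ∀ a ∈ N, y * a * y⁻¹ ∈ N := hNn y hyH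
    have h3 : IsPGroup 2 ↥(zpowers y ⊔ N) := by
      have h4 : IsPGroup 2 ↥(zpowers y) := IsPGroup.of_card (n := 1) (by rw [Nat.card_zpowers, hy, pow_one])
      refine IsPGroup.to_sup_of_normal_right' h4 hN2 ?_
      rw [zpowers_le]
      exact mem_norm hyN
    obtain ⟨P, hP⟩ := h3.exists_le_sylow
    have h5 : N = (P : Subgroup G) := by
      apply eq_of_le_of_card_ge (le_sup_right.trans hP)
      rw [h8, d.syl2 P]
    rw [h5]
    exact hP (mem_sup_left (mem_zpowers y))

/-- the `x`-invariant Sylow 2-subgroups are conjugate under the normalizer of `⟨x⟩` -/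
theorem conj_inv (d : D G) [Fact (Nat.Prime 7)] {x : G} (hx : orderOf x = 7) {T R : Subgroup G}
    (hT : Nat.card T = 8) (hR : Nat.card R = 8) (hxT : ∀ a ∈ T, x * a * x⁻¹ ∈ T) (hxR : ∀ a ∈ R, x * a * x⁻¹ ∈ R) :
    ∃ n ∈ normalizer ((zpowers x : Subgroup G) : Set G), ∀ y ∈ R, n * y * n⁻¹ ∈ T := by
  haveI := d.fin
  haveI := Fact.mk Nat.prime_two
  have hcyc : ∀ P : Sylow 7 G, IsCyclic (P : Subgroup G) := cyclic_of_card (not_sq d (by (clear * -; tauto)))
  have hT2 : IsPGroup 2 T := IsPGroup.of_card (n := 3) hT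
  have hR2 : IsPGroup 2 R := IsPGroup.of_card (n := 3) hR
  obtain ⟨P, hP⟩ := hT2.exists_le_sylow
  obtain ⟨Q, hQ⟩ := hR2.exists_le_sylow
  have hTP : T = (P : Subgroup G) := eq_of_le_of_card_ge hP (by rw [hT, d.syl2 P])
  have hRQ : R = (Q : Subgroup G) := eq_of_le_of_card_ge hQ (by rw [hR, d.syl2 Q])
  obtain ⟨h, hh⟩ := MulAction.exists_smul_eq G Q P
  have hconj : ∀ y : G, y ∈ R ↔ h * y * h⁻¹ ∈ T := by
    intro y
    rw [hTP, ← hh, Sylow.coe_subgroup_smul, hRQ]
    constructor
    · intro hy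
      exact ⟨y, hy, rfl⟩
    · rintro ⟨z, hz, h1⟩
      have h2 : z = y := (MulAut.conj h).injective h1
      rwa [← h2]
  set M : Subgroup G := normalizer (T : Set G) with hM
  have hxM : x ∈ M := mem_norm hxT
  have hxM' : h * x * h⁻¹ ∈ M := by
    refine mem_norm fun a ha => ?_
    have h1 : h⁻¹ * a * h ∈ R := by
      rw [hconj]
      have : h * (h⁻¹ * a * h) * h⁻¹ = a := by group
      rwa [this]
    have h2 := (hconj _).1 (hxR _ h1)
    have h3 : h * (x * (h⁻¹ * a * h) * x⁻¹) * h⁻¹ = h * x * h⁻¹ * a * (h * x * h⁻¹)⁻¹ := by group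
    rwa [h3] at h2
  obtain ⟨m, hm⟩ := exists_conj_mem (p := 7) (fun S => cyclic_of_le hcyc M S)
    (x := (⟨h * x * h⁻¹, hxM'⟩ : M)) (by
      rw [Subgroup.orderOf_mk]
      have : h * x * h⁻¹ = MulAut.conj h x := rfl
      rw [this, ← hx]
      exact orderOf_injective (MulAut.conj h).toMonoidHom (MulAut.conj h).injective x)
    (L := zpowers (⟨x, hxM⟩ : M)) (by rw [Nat.card_zpowers, Subgroup.orderOf_mk, hx])
  obtain ⟨k, hk⟩ := mem_zpowers_iff.1 hm
  have h4 : ((m : G) * h) * x * ((m : G) * h)⁻¹ = x ^ k := by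
    have h5 := congrArg Subtype.val hk
    push_cast at h5
    rw [h5]
    group
  refine ⟨(m : G) * h, ?_, ?_⟩
  · refine mem_norm (mem_normalizer_zpowers ?_)
    rw [h4]
    exact zpow_mem (mem_zpowers x) k
  · intro y hy
    have h1 := (hconj y).1 hy
    have h2 := (mem_normalizer_iff.1 m.2 _).1 h1
    have h3 : (m : G) * h * y * ((m : G) * h)⁻¹ = (m : G) * (h * y * h⁻¹) * (m : G)⁻¹ := by group
    rwa [h3]

/-- no element of order 7 -/
theorem seven (d : D G) [Fact (Nat.Prime 7)] (hb : Blk 7 G) : NoE 7 G := by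
  haveI := d.fin
  haveI := Fact.mk Nat.prime_two
  classical
  intro x hx hR hY
  have hcyc : ∀ P : Sylow 7 G, IsCyclic (P : Subgroup G) := cyclic_of_card (not_sq d (by (clear * -; tauto)))
  obtain ⟨P⟩ := (inferInstance : Nonempty (Sylow 2 G))
  obtain ⟨g, hg⟩ := exists_conj_mem (p := 7) hcyc hx (d.norm2 P)
  -- the Sylow 2-subgroup which is normalised by `x`
  set T : Subgroup G := (P : Subgroup G).map (MulAut.conj g⁻¹).toMonoidHom with hT
  have hTc : Nat.card T = 8 := by
    rw [hT, Subgroup.card_map_of_injective (MulAut.conj g⁻¹).injective, d.syl2 P]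
  have hxT : ∀ a ∈ T, x * a * x⁻¹ ∈ T := by
    rintro _ ⟨a, ha, rfl⟩
    refine ⟨g * x * g⁻¹ * a * (g * x * g⁻¹)⁻¹, (mem_normalizer_iff.1 hg a).1 ha, ?_⟩
    change g⁻¹ * (g * x * g⁻¹ * a * (g * x * g⁻¹)⁻¹) * g⁻¹⁻¹ = x * (g⁻¹ * a * g⁻¹⁻¹) * x⁻¹
    group
  obtain ⟨y0, hy0⟩ := exists_prime_orderOf_dvd_card' (G := T) 2 (by rw [hTc]; norm_num)
  have hy0' : orderOf (y0 : G) = 2 := by rw [Subgroup.orderOf_coe, hy0]
  have hs : Group.IsSolvable ↥(Subgroup.closure ({x, (y0 : G)} : Set G)) :=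
    isSolvable_pair (isSolvable_of_isPGroup (IsPGroup.of_card (p := 2) (n := 3) hTc)) hxT y0.2
  have hY2 := hY 2 Nat.prime_two (by norm_num) y0 ⟨1, by rw [hy0', pow_one]⟩ hs
  set N := normalizer ((zpowers x : Subgroup G) : Set G) with hN
  let Φ : N × T → G := fun a => (a.1 : G)⁻¹ * a.2 * a.1
  have hsub : conjugatesOf (y0 : G) ⊆ (N : Set G) ∪ Set.range Φ := by
    intro y hy
    obtain ⟨g', hg'⟩ := isConj_iff.1 (show IsConj (y0 : G) y from hy)
    have h1 := hY2 g'
    rw [hg'] at h1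
    have h2 : orderOf y = 2 := by
      rw [← hg', ← hy0']
      exact orderOf_injective (MulAut.conj g').toMonoidHom (MulAut.conj g').injective _
    rcases dich d hb hx hY h2 h1 with h3 | ⟨R, hRc, hxR, hyR⟩
    · exact Or.inl h3
    · right
      obtain ⟨n, hn, h4⟩ := conj_inv d hx hTc hRc hxT hxR
      exact ⟨(⟨n, hn⟩, ⟨_, h4 y hyR⟩), by change n⁻¹ * (n * y * n⁻¹) * n = y; group⟩
  have h1 := Set.ncard_le_ncard hsub (Set.toFinite _)
  have h2 := Set.ncard_union_le (N : Set G) (Set.range Φ)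
  have h3 : Set.ncard (Set.range Φ) ≤ 42 * 8 := by
    have h4 := Nat.card_le_card_of_surjective (Set.rangeFactorization Φ) Set.rangeFactorization_surjective
    rw [Nat.card_prod, hTc, d.norm7 x hx, Nat.card_coe_set_eq] at h4
    exact h4
  have h4 : Set.ncard (N : Set G) = 42 := by
    rw [← Nat.card_coe_set_eq]
    exact d.norm7 x hx
  have h5 := card_conj_mul (y0 : G)
  rw [d.cent2 _ hy0', d.card, Nat.card_coe_set_eq] at h5
  omega

theorem row (d : D G) [IsSimpleGroup G] (hna : ¬ IsMulCommutative G) {p : ℕ} [hp : Fact p.Prime] (hp5 : 5 ≤ p)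
    (hb : Blk p G) : NoE p G := by
  haveI := d.fin
  by_cases h7 : p = 7
  · subst h7
    exact seven d hb
  by_cases h : p = 5 ∨ p = 11 ∨ p = 19
  · exact NoE.of_m0 hna (cyclic_of_card (not_sq d (by (clear * - h; tauto)))) fun x hx _ hY => m0 d h hb hx hY
  · intro x hx _ _
    have h1 : p ∣ 175560 := by
      rw [← d.card, ← hx]
      exact _root_.orderOf_dvd_natCard x
    have h2 : p ∈ Nat.primeFactors 175560 := Nat.mem_primeFactors.2 ⟨hp.out, h1, by norm_num⟩
    have h3 : Nat.primeFactors 175560 = {2, 3, 5, 7, 11, 19} := by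
      decide +kernel
    rw [h3] at h2
    simp only [Finset.mem_insert, Finset.mem_singleton] at h2
    omega

end JOne

open Cfsg.Agent.H305.SepJ1 in
/-- the facts for `J1` -/
theorem dat : D Cfsg.Spor.J1 where
  fin := fin
  card := by rw [card]; rfl
  cent7 := fun x hx => by
    rw [← cent_zpowers]
    exact (cn7 (by rw [Nat.card_zpowers, hx])).1
  norm7 := fun x hx => (cn7 (by rw [Nat.card_zpowers, hx])).2
  syl2 := fun P => (Cfsg.Agent.UGT.EndJ1.Data.bal.syl P).1
  norm2 := fun P => (by norm_num : 7 ∣ 56).trans (n2 P)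
  conj2 := fun x y hx hy => local'.conj x y hx hy
  cent2 := fun x hx => card_cent_two hx

/-- the row `J1` -/
theorem noE_j1 {K : Type*} [Group K] [Finite K] [IsSimpleGroup K] (h : Cfsg.Spor.IsoJ1 K) {p : ℕ} [Fact p.Prime]
    (hp : 5 ≤ p) (hb : Cfsg.Agent.H301.SY.Blk p K) (hO : Cfsg.Agent.H301.SY.ThO p K) :
    Cfsg.Agent.H301.SY.NoE p K := by
  obtain ⟨e⟩ := h
  haveI := Cfsg.Agent.H305.SepJ1.fin
  haveI := Cfsg.Agent.H305.SepJ1.simple
  refine NoE.congr e (row dat (fun h => ?_) hp (blk_congr e hb))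
  exact Cfsg.Agent.H305.SepJ1.na fun a b => h.is_comm.comm a b

end Cfsg.Agent.H305.YJ1
end

-- part: H305/YTools
section
/-!
# S3846: tools for the sporadic rows (helper305)

* `m0_of_chk` : `M0 x` by the orders of the primes (a numerical check);
* `not_dvd_radIn_of_simple` : the radical of `M` has order prime to `p` if `M` has a normal simple non-abelian
  subgroup of index prime to `p`;
* `not_five_dvd_model` : the radical of `2^{1+4}.A₅`.
-/

set_option autoImplicit false
set_option linter.style.haveILetI false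
set_option linter.unusedSectionVars false

namespace Cfsg.Agent.H305.YTools

open Subgroup Cfsg.Agent.H301.SY Cfsg.Agent.H459.Rad Cfsg.Agent.SignalizersComponents.ComponentExists

/-- the numerical condition: no prime `t ∣ p - 1` has a power `t ^ i ∣ n`, `i > 0`, with `p ∣ t ^ i - 1` -/
def Ord (p n : ℕ) : Prop :=
  ∀ t ∈ (p - 1).primeFactors, ∀ i ∈ Finset.Icc 1 (Nat.log 2 n), n % t ^ i = 0 → t ^ i % p ≠ 1 % p

instance (p n : ℕ) : Decidable (Ord p n) := inferInstanceAs (Decidable (∀ _, _))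

theorem Ord.not {p n : ℕ} (h : Ord p n) (hn : n ≠ 0) (hp : 2 < p) {t : ℕ} (ht : t.Prime) (htd : t ∣ p - 1) {i : ℕ}
    (hi : 0 < i) (hti : t ^ i ∣ n) : ¬ t ^ i ≡ 1 [MOD p] := by
  refine h t (Nat.mem_primeFactors.2 ⟨ht, htd, by omega⟩) i (Finset.mem_Icc.2 ⟨hi, ?_⟩) (Nat.mod_eq_zero_of_dvd hti)
  refine Nat.le_log_of_pow_le (by norm_num) ?_
  exact (Nat.pow_le_pow_left ht.two_le i).trans (Nat.le_of_dvd (Nat.pos_of_ne_zero hn) hti)

variable {K : Type*} [Group K] [Finite K]

/-- `M0 x` by the orders of the primes -/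
theorem m0_of_chk {p n : ℕ} [Fact p.Prime] (hK : Nat.card K = n) (hp : 2 < p) (h : Ord p n)
    (hcyc : ∀ P : Sylow p K, IsCyclic (P : Subgroup K)) (hb : Blk p K) {x : K} (hx : orderOf x = p) (hY : YE p x) :
    M0 x := by
  subst hK
  exact M0.of_triv_blk hcyc hb hx hY fun t ht htp htd R hRt hxR =>
    centralises_of_card hx ht htp (fun i hi h1 => h.not Nat.card_pos.ne' hp ht htd hi h1) hRt hxR

/-- the row for one prime by the orders of the primes -/
theorem noE_of_chk [IsSimpleGroup K] (hna : ¬ IsMulCommutative K) {p n : ℕ} [Fact p.Prime] (hK : Nat.card K = n)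
    (hp : 2 < p) (h2 : ¬ n % (p * p) = 0) (h : Ord p n) (hb : Blk p K) : NoE p K := by
  have hcyc : ∀ P : Sylow p K, IsCyclic (P : Subgroup K) := cyclic_of_card (by
    rw [hK, pow_two]
    intro h1
    exact h2 (Nat.mod_eq_zero_of_dvd h1))
  exact NoE.of_m0 hna hcyc fun x hx _ hY => m0_of_chk hK hp h hcyc hb hx hY

/-- no element of order `p` -/
theorem noE_of_not_dvd {p n : ℕ} (hK : Nat.card K = n) (h : ¬ p ∣ n) : NoE p K := by
  intro x hx _ _
  apply h
  rw [← hK, ← hx]
  exact _root_.orderOf_dvd_natCard x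

theorem noE_of_mem_primeFactors {p n : ℕ} [hp : Fact p.Prime] (hK : Nat.card K = n)
    (h : p ∈ n.primeFactors → NoE p K) : NoE p K := by
  by_cases hd : p ∣ n
  · exact h (Nat.mem_primeFactors.2 ⟨hp.out, hd, by rw [← hK]; exact Nat.card_pos.ne'⟩)
  · exact noE_of_not_dvd hK hd

/-- a solvable simple group is commutative -/
theorem comm_of_solvable {S : Type*} [Group S] [IsSimpleGroup S] (h : Group.IsSolvable S) : IsMulCommutative S := by
  haveI : Group.IsSolvable S := h
  exact ⟨⟨(IsSimpleGroup.comm_iff_isSolvable (G := S)).2 inferInstance⟩⟩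

/-- a solvable subgroup which is normalised by the simple group `S` meets `S` trivially -/
theorem inf_eq_bot {S R : Subgroup K} [IsSimpleGroup S] (hna : ¬ IsMulCommutative S) (hR : Group.IsSolvable R)
    (hn : ∀ s ∈ S, ∀ r ∈ R, s * r * s⁻¹ ∈ R) : R ⊓ S = ⊥ := by
  have h1 : (R.subgroupOf S).Normal := ⟨fun r hr s => mem_subgroupOf.2 (hn s s.2 r (mem_subgroupOf.1 hr))⟩
  rcases h1.eq_bot_or_eq_top with h2 | h2
  · rwa [subgroupOf_eq_bot, disjoint_iff] at h2
  · exfalso
    apply hna
    rw [subgroupOf_eq_top] at h2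
    exact comm_of_solvable (Group.isSolvable_of_isSolvable_injective (f := inclusion h2) (inclusion_injective h2))

/-- the radical of `M` has order prime to `p` if `M` has a normal simple non-abelian subgroup of index prime to `p` -/
theorem not_dvd_radIn_of_simple {p : ℕ} [hp : Fact p.Prime] {M S : Subgroup K} (hSM : S ≤ M)
    (hn : ∀ m ∈ M, ∀ s ∈ S, m * s * m⁻¹ ∈ S) [IsSimpleGroup S] (hna : ¬ IsMulCommutative S)
    (hi : ¬ p ∣ S.relIndex M) : ¬ p ∣ Nat.card (radIn M) := by
  intro hd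
  have h0 : radIn M ⊓ S = ⊥ := inf_eq_bot hna (radIn_solvable M) fun s hs r hr => radIn_conj_mem (hSM hs) hr
  obtain ⟨r, hr⟩ := exists_prime_orderOf_dvd_card' (G := radIn M) p hd
  have hr' : orderOf (r : K) = p := by rw [Subgroup.orderOf_coe, hr]
  have hrM : (r : K) ∈ M := radIn_le M r.2
  haveI : (S.subgroupOf M).Normal := ⟨fun s hs m => mem_subgroupOf.2 (hn m m.2 s (mem_subgroupOf.1 hs))⟩
  have h1 : (QuotientGroup.mk' (S.subgroupOf M) ⟨r, hrM⟩) ^ p = 1 := by
    rw [← map_pow]
    have : (⟨(r : K), hrM⟩ : M) ^ p = 1 := by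
      apply Subtype.ext
      change (r : K) ^ p = 1
      rw [← hr', pow_orderOf_eq_one]
    rw [this, map_one]
  have h2 : QuotientGroup.mk' (S.subgroupOf M) ⟨r, hrM⟩ ≠ 1 := by
    intro h3
    have h4 : (r : K) ∈ S :=
      mem_subgroupOf.1 ((QuotientGroup.eq_one_iff (N := S.subgroupOf M) (⟨r, hrM⟩ : M)).1 h3)
    have h5 : (r : K) ∈ radIn M ⊓ S := ⟨r.2, h4⟩
    rw [h0, mem_bot] at h5
    rw [h5, orderOf_one] at hr'
    exact hp.out.one_lt.ne hr'
  apply hi
  have h3 := orderOf_eq_prime h1 h2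
  rw [relIndex, index_eq_card, ← h3]
  exact _root_.orderOf_dvd_natCard _

/-- the radical of a conjugate centralizer -/
theorem card_radIn_centralizer_conj (g u : K) : Nat.card (radIn (centralizer ({g * u * g⁻¹} : Set K))) =
    Nat.card (radIn (centralizer ({u} : Set K))) := by
  have h1 : centralizer ({g * u * g⁻¹} : Set K) =
      (centralizer ({u} : Set K)).map (MulAut.conj g).toMonoidHom := by
    ext x
    rw [mem_centralizer_singleton_iff]
    constructor
    · intro hx
      refine ⟨g⁻¹ * x * g, ?_, by change g * (g⁻¹ * x * g) * g⁻¹ = x; group⟩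
      rw [SetLike.mem_coe, mem_centralizer_singleton_iff]
      calc g⁻¹ * x * g * u = g⁻¹ * (x * (g * u * g⁻¹)) * g := by group
        _ = g⁻¹ * ((g * u * g⁻¹) * x) * g := by rw [hx]
        _ = u * (g⁻¹ * x * g) := by group
    · rintro ⟨y, hy, rfl⟩
      rw [SetLike.mem_coe, mem_centralizer_singleton_iff] at hy
      change g * y * g⁻¹ * (g * u * g⁻¹) = (g * u * g⁻¹) * (g * y * g⁻¹)
      calc g * y * g⁻¹ * (g * u * g⁻¹) = g * (y * u) * g⁻¹ := by group
        _ = g * (u * y) * g⁻¹ := by rw [hy]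
        _ = _ := by group
  rw [h1, radIn_conj, Subgroup.card_map_of_injective (MulAut.conj g).injective]

open Cfsg.Agent.J2Type.Model in
/-- the radical of `2^{1+4}.A₅` has order prime to 5 -/
theorem not_five_dvd_model {C : Type*} [Group C] [Finite C] {Q : Subgroup C} {z : C} {v : Fin 5 → C} {ρ : C →* SP}
    (M : IsModel Q z v ρ) (hQ : ¬ 5 ∣ Nat.card Q) {N : Subgroup C} (hs : Group.IsSolvable N)
    (hn : ∀ c, ∀ n ∈ N, c * n * c⁻¹ ∈ N) : ¬ 5 ∣ Nat.card N := by
  set f := Cfsg.Agent.KFacts.QMinus.permHom ρ with hf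
  have hr := Cfsg.Agent.KFacts.QMinus.range_permHom M
  haveI hsimp : IsSimpleGroup (alternatingGroup (Fin 5)) := alternatingGroup.isSimpleGroup (by simp)
  have hna : ¬ IsMulCommutative (alternatingGroup (Fin 5)) := by
    intro h
    have h1 := h.is_comm.comm
    revert h1
    decide +kernel
  have h0 : N.map f ⊓ alternatingGroup (Fin 5) = ⊥ := by
    refine inf_eq_bot hna (isSolvable_map hs f) ?_
    rintro s hs' _ ⟨n, hn', rfl⟩
    rw [← hr] at hs'
    obtain ⟨c, rfl⟩ := hs'
    exact ⟨c * n * c⁻¹, hn c n hn', by rw [map_mul, map_mul, map_inv]⟩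
  have hle : N ≤ Q := by
    intro c hc
    rw [M.mem_Q]
    have h1 : f c ∈ N.map f := ⟨c, hc, rfl⟩
    have h2 : f c ∈ alternatingGroup (Fin 5) := by rw [← hr]; exact ⟨c, rfl⟩
    have h3 : f c ∈ N.map f ⊓ alternatingGroup (Fin 5) := ⟨h1, h2⟩
    rw [h0, mem_bot] at h3
    exact h3
  intro h5
  exact hQ (h5.trans (card_dvd_of_le hle))

end Cfsg.Agent.H305.YTools
end

-- part: H305/YJ3
section
/-!
# Row `J3` of S3846 (helper305)
-/

set_option autoImplicit false
set_option linter.style.haveILetI false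
set_option linter.unusedSectionVars false
set_option linter.unusedVariables false

namespace Cfsg.Agent.H305.YJ3

open Subgroup Cfsg.Agent.H301.SY Cfsg.Agent.H459.Rad Cfsg.Agent.H305.YTools
open Cfsg.Agent.J3Type.OneClass Cfsg.Agent.J2Type.Model

/-- the radical of the centralizer of an involution of type `2^{1+4}.A₅` -/
theorem not_five_dvd_rad {K : Type*} [Group K] [Finite K] {t : K} {Q : Subgroup (centralizer ({t} : Set K))}
    {v : Fin 5 → centralizer ({t} : Set K)} {ρ : centralizer ({t} : Set K) →* SP} (M : IsModel Q (zc t) v ρ)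
    (hc : Nat.card (centralizer ({t} : Set K)) = 1920) : ¬ 5 ∣ Nat.card (radIn (centralizer ({t} : Set K))) := by
  have h1 : Nat.card Q * 60 = 1920 := by
    rw [← hc, ← Cfsg.Agent.KFacts.QMinus.card_A5, ← Cfsg.Agent.KFacts.QMinus.range_permHom M,
      ← Nat.card_congr (QuotientGroup.quotientKerEquivRange (Cfsg.Agent.KFacts.QMinus.permHom ρ)).toEquiv,
      Cfsg.Agent.KFacts.QMinus.ker_permHom M, mul_comm, ← card_eq_card_quotient_mul_card_subgroup]
  have h2 : Nat.card Q = 32 := by omega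
  have h3 := not_five_dvd_model M (by rw [h2]; norm_num) (N := solvableRadical (centralizer ({t} : Set K)))
    (rad_spec _).2.1 (fun c n hn => (rad_normal _).conj_mem n hn c)
  unfold radIn
  rwa [Subgroup.card_map_of_injective (centralizer ({t} : Set K)).subtype_injective]

theorem na {K : Type*} [Group K] [Finite K] {t : K} (ht : orderOf t = 2)
    (hc : Nat.card (centralizer ({t} : Set K)) ≠ Nat.card K) : ¬ IsMulCommutative K := by
  intro h
  apply hc
  have h2 : centralizer ({t} : Set K) = ⊤ := by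
    rw [eq_top_iff]
    intro y _
    rw [mem_centralizer_singleton_iff]
    exact h.is_comm.comm y t
  rw [h2, card_top]

/-- the row `J3` -/
theorem noE_j3 {K : Type*} [Group K] [Finite K] [IsSimpleGroup K] (h : Cfsg.Spor.IsoJ3 K) {p : ℕ} [hpF : Fact p.Prime]
    (hp : 5 ≤ p) (hb : Cfsg.Agent.H301.SY.Blk p K) (hO : Cfsg.Agent.H301.SY.ThO p K) :
    Cfsg.Agent.H301.SY.NoE p K := by
  obtain ⟨-, hc, hM⟩ := Cfsg.Agent.H898.J3Cent.base h
  haveI := Fact.mk Nat.prime_two
  obtain ⟨t, ht⟩ := exists_prime_orderOf_dvd_card' (G := K) 2 (by rw [hc]; norm_num)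
  obtain ⟨-, hC, Q, v, ρ, M⟩ := hM t ht
  have hna : ¬ IsMulCommutative K := na ht (by rw [hC, hc]; norm_num)
  have h5 := not_five_dvd_rad M hC
  refine noE_of_mem_primeFactors hc fun hpn => ?_
  have h3 : Nat.primeFactors 50232960 = {2, 3, 5, 17, 19} := by decide +kernel
  rw [h3] at hpn
  simp only [Finset.mem_insert, Finset.mem_singleton] at hpn
  rcases hpn with rfl | rfl | rfl | rfl | rfl
  · omega
  · omega
  · refine NoE.of_lw (cyclic_of_card (by rw [hc]; decide +kernel)) ⟨centralizer ({t} : Set K), ?_, ?_, h5⟩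
    · intro h1
      rw [h1, card_top, hc] at hC
      exact absurd hC (by norm_num)
    · rw [hC]; norm_num
  · exact noE_of_chk hna hc (by norm_num) (by decide +kernel) (by decide +kernel) hb
  · exact noE_of_chk hna hc (by norm_num) (by decide +kernel) (by decide +kernel) hb

end Cfsg.Agent.H305.YJ3
end

-- part: H305/YJ2
section
/-!
# Row `J2` of S3846 (helper305)
-/

set_option autoImplicit false
set_option linter.style.haveILetI false
set_option linter.unusedSectionVars false
set_option linter.unusedVariables false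

namespace Cfsg.Agent.H305.YJ2

open Subgroup Cfsg.Agent.H301.SY Cfsg.Agent.H459.Rad Cfsg.Agent.H305.YTools
open Cfsg.Agent.J3Type.OneClass Cfsg.Agent.J2Type.Model Cfsg.Agent.J2Type Cfsg.Agent.J2Type.Base

variable {K : Type*} [Group K] [Finite K]

/-- two elements which generate conjugate subgroups have centralizers of the same order -/
theorem card_cent_of_zpowers {a b x y : K}
    (h : (zpowers x).map (MulAut.conj a).toMonoidHom = (zpowers y).map (MulAut.conj b).toMonoidHom) :
    Nat.card (centralizer ({x} : Set K)) = Nat.card (centralizer ({y} : Set K)) := by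
  rw [MonoidHom.map_zpowers, MonoidHom.map_zpowers] at h
  have h1 : ∀ (c w : K), Nat.card (centralizer ({w} : Set K)) =
      Nat.card (centralizer ({(MulAut.conj c).toMonoidHom w} : Set K)) := fun c w =>
    card_centralizer (MulAut.conj c) w
  rw [h1 a x, h1 b y, ← SepJ1.cent_zpowers, ← SepJ1.cent_zpowers, h]

/-- every element of order 5 commutes with a conjugate of `z` or `u` -/
theorem five_comm {z u : K} (F : Fus z u) {x : K} (hx : orderOf x = 5) :
    ∃ g : K, g * x * g⁻¹ * z = z * (g * x * g⁻¹) ∨ g * x * g⁻¹ * u = u * (g * x * g⁻¹) := by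
  haveI : Fact (Nat.Prime 5) := ⟨Nat.prime_five⟩
  obtain ⟨f, U, V, H0, FF⟩ := CentU.main F
  have h60 : Nat.card H0 = 60 := by
    have h1 := Order.card_centralizer_u F
    rw [FF.str.card] at h1
    omega
  obtain ⟨w', hw'⟩ := exists_prime_orderOf_dvd_card' (G := H0) 5 (by rw [h60]; norm_num)
  obtain ⟨w, hw⟩ := exists_prime_orderOf_dvd_card' (G := centralizer ({z} : Set K)) 5 (by rw [F.cardC]; norm_num)
  have hw'5 : orderOf (w' : K) = 5 := by rw [orderOf_coe]; exact hw'
  have hw5 : orderOf (w : K) = 5 := by rw [orderOf_coe]; exact hw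
  have hwz : (w : K) * z = z * w := mem_centralizer_singleton_iff.mp w.2
  have hwu : (w' : K) * u = u * w' := mem_centralizer_singleton_iff.mp (FF.str.le w'.2)
  have hcw := FiveFus.not_four_dvd F hw5 hwz
  have hcw' : 4 ∣ Nat.card (centralizer ({(w' : K)} : Set K)) := by
    rcases (Cent5.good_of_mem F FF h60 w'.2 hw'5).card_centralizer_cases with h1 | h1 | h1 <;> rw [h1] <;> norm_num
  have hne : Nat.card (centralizer ({(w : K)} : Set K)) ≠ Nat.card (centralizer ({(w' : K)} : Set K)) := by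
    intro h1
    exact hcw (h1 ▸ hcw')
  obtain ⟨P⟩ := (inferInstance : Nonempty (Sylow 5 K))
  obtain ⟨-, -, -, X, Y, hX, hY, hXY, hall⟩ := FiveFus.sylow_five F P
  have hz5 : ∀ y : K, orderOf y = 5 → Nat.card (zpowers y) = 5 := fun y hy => by rw [Nat.card_zpowers, hy]
  obtain ⟨a, ha⟩ := hall (zpowers (w : K)) (hz5 _ hw5)
  obtain ⟨b, hb⟩ := hall (zpowers (w' : K)) (hz5 _ hw'5)
  obtain ⟨c, hc⟩ := hall (zpowers x) (hz5 _ hx)
  have key : ∀ (y v d : K), y * v = v * y →
      (zpowers x).map (MulAut.conj c).toMonoidHom = (zpowers y).map (MulAut.conj d).toMonoidHom →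
      (d⁻¹ * c) * x * (d⁻¹ * c)⁻¹ * v = v * ((d⁻¹ * c) * x * (d⁻¹ * c)⁻¹) := by
    intro y v d hyv h1
    have h2 : c * x * c⁻¹ ∈ (zpowers y).map (MulAut.conj d).toMonoidHom := by
      rw [← h1]
      exact ⟨x, mem_zpowers x, rfl⟩
    obtain ⟨y', hy', h3⟩ := h2
    obtain ⟨k, rfl⟩ := mem_zpowers_iff.1 hy'
    have h4 : (d⁻¹ * c) * x * (d⁻¹ * c)⁻¹ = y ^ k := by
      have h5 : d * y ^ k * d⁻¹ = c * x * c⁻¹ := h3
      calc (d⁻¹ * c) * x * (d⁻¹ * c)⁻¹ = d⁻¹ * (c * x * c⁻¹) * d := by group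
        _ = y ^ k := by rw [← h5]; group
    rw [h4]
    exact (show Commute y v from hyv).zpow_left k
  rcases ha with ha | ha <;> rcases hb with hb | hb
  · exact absurd (card_cent_of_zpowers (ha.trans hb.symm)) hne
  · rcases hc with hc | hc
    · exact ⟨a⁻¹ * c, Or.inl (key _ _ _ hwz (hc.trans ha.symm))⟩
    · exact ⟨b⁻¹ * c, Or.inr (key _ _ _ hwu (hc.trans hb.symm))⟩
  · rcases hc with hc | hc
    · exact ⟨b⁻¹ * c, Or.inr (key _ _ _ hwu (hc.trans hb.symm))⟩
    · exact ⟨a⁻¹ * c, Or.inl (key _ _ _ hwz (hc.trans ha.symm))⟩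
  · exact absurd (card_cent_of_zpowers (ha.trans hb.symm)) hne

/-- the radical of `2² × A₅` -/
theorem not_five_dvd_rad_u {z u : K} (F : Fus z u) : ¬ 5 ∣ Nat.card (radIn (centralizer ({u} : Set K))) := by
  haveI : Fact (Nat.Prime 5) := ⟨Nat.prime_five⟩
  obtain ⟨H0, S⟩ := CentU.exists_hstr F
  obtain ⟨-, h240, h60, ⟨e⟩⟩ := Order.order_of_fus F S
  haveI h1 : IsSimpleGroup (alternatingGroup (Fin 5)) := alternatingGroup.isSimpleGroup (by simp)
  haveI : Nontrivial H0 := e.toEquiv.nontrivial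
  haveI h2 : IsSimpleGroup H0 := IsSimpleGroup.isSimpleGroup_of_surjective e.symm.toMonoidHom e.symm.surjective
  have hna : ¬ IsMulCommutative H0 := by
    intro h
    have h3 : ∀ a b : alternatingGroup (Fin 5), a * b = b * a := by
      intro a b
      apply e.symm.injective
      rw [map_mul, map_mul]
      exact h.is_comm.comm _ _
    revert h3
    decide +kernel
  refine not_dvd_radIn_of_simple S.le S.conj_mem hna ?_
  have h3 := card_mul_index (H0.subgroupOf (centralizer ({u} : Set K)))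
  rw [Nat.card_congr (subgroupOfEquivOfLe S.le).toEquiv, h240, h60] at h3
  have h4 : H0.relIndex (centralizer ({u} : Set K)) = 4 := by
    unfold relIndex
    omega
  rw [h4]
  norm_num

/-- a Sylow 2-subgroup whose centre has order at most 2 -/
theorem exists_sylow_two {t : K} {Q : Subgroup (centralizer ({t} : Set K))}
    {v : Fin 5 → centralizer ({t} : Set K)} {ρ : centralizer ({t} : Set K) →* SP} (M : IsModel Q (zc t) v ρ)
    (hc : Nat.card (centralizer ({t} : Set K)) = 1920) (hK : ¬ 256 ∣ Nat.card K) :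
    ∃ T : Sylow 2 K, Nat.card T = 2 ^ 7 ∧ ∀ W : Subgroup K, W ≤ T →
      (∀ w ∈ W, ∀ u ∈ (T : Subgroup K), w * u = u * w) → Nat.card W ≤ 2 := by
  haveI := Fact.mk Nat.prime_two
  obtain ⟨S⟩ := (inferInstance : Nonempty (Sylow 2 (centralizer ({t} : Set K))))
  have hS : Nat.card (S : Subgroup (centralizer ({t} : Set K))) = 2 ^ 7 := by
    rw [S.card_eq_multiplicity, hc]
    have : (1920 : ℕ) = 2 ^ 7 * 15 := by norm_num
    rw [this, Nat.factorization_mul (by norm_num) (by norm_num), Nat.prime_two.factorization_pow]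
    simp [Nat.factorization_eq_zero_of_not_dvd (show ¬ 2 ∣ 15 by norm_num)]
  have hQS : Q ≤ (S : Subgroup _) := by
    haveI : Q.Normal := normal_Q M
    exact le_sylow_of_normal Q (Cfsg.Agent.KFacts.J2.Facts.isPGroup_Q M) S
  obtain ⟨T, hT⟩ := (S.isPGroup'.map (centralizer ({t} : Set K)).subtype).exists_le_sylow
  have hcS : Nat.card ((S : Subgroup (centralizer ({t} : Set K))).map (centralizer ({t} : Set K)).subtype) = 2 ^ 7 := by
    rw [Subgroup.card_map_of_injective (centralizer ({t} : Set K)).subtype_injective, hS]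
  have hcT : Nat.card T = 2 ^ 7 := by
    obtain ⟨n, hn⟩ := T.isPGroup'.exists_card_eq
    have h1 := card_dvd_of_le hT
    have h2 := Subgroup.card_subgroup_dvd_card (T : Subgroup K)
    change Nat.card (T : Subgroup K) = _
    rw [hn] at h1 h2 ⊢
    rw [hcS] at h1
    have h3 : 7 ≤ n := (Nat.pow_dvd_pow_iff_le_right (by norm_num)).1 h1
    have h4 : ¬ 8 ≤ n := fun h5 => hK ((pow_dvd_pow 2 h5).trans h2)
    rw [show n = 7 by omega]
  have hTS : (T : Subgroup K) = (S : Subgroup (centralizer ({t} : Set K))).map (centralizer ({t} : Set K)).subtype :=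
    (eq_of_le_of_card_ge hT (by rw [hcS]; exact hcT.le)).symm
  refine ⟨T, hcT, fun W hW hcomm => ?_⟩
  have h1 : ∀ w ∈ W, w = 1 ∨ w = t := by
    intro w hw
    have h2 := hW hw
    rw [hTS] at h2
    obtain ⟨c, hc', h3⟩ := h2
    have h4 : c = 1 ∨ c = zc t := by
      refine Cfsg.Agent.KFacts.QMinus.cent_Q M fun i => Subtype.ext ?_
      have h5 : ((v i : centralizer ({t} : Set K)) : K) ∈ (T : Subgroup K) := by
        rw [hTS]
        exact ⟨v i, hQS (M.v_mem i), rfl⟩
      have h6 := hcomm w hw _ h5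
      rw [← h3] at h6
      exact h6
    rcases h4 with h5 | h5
    · left
      rw [← h3, h5]
      rfl
    · right
      rw [← h3, h5]
      rfl
  have h2 : (W : Set K) ⊆ {1, t} := by
    intro w hw
    rcases h1 w hw with h | h
    · exact Or.inl h
    · exact Or.inr h
  have h3 := Set.ncard_le_ncard h2 (Set.toFinite _)
  have h4 : Set.ncard ({1, t} : Set K) ≤ 2 := (Set.ncard_insert_le 1 {t}).trans (by rw [Set.ncard_singleton])
  rw [← Nat.card_coe_set_eq] at h3
  exact h3.trans h4

/-- the row `J2` -/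
theorem noE_j2 {K : Type*} [Group K] [Finite K] [IsSimpleGroup K] (h : Cfsg.Spor.IsoJ2 K) {p : ℕ} [hpF : Fact p.Prime]
    (hp : 5 ≤ p) (hb : Cfsg.Agent.H301.SY.Blk p K) (hO : Cfsg.Agent.H301.SY.ThO p K) :
    Cfsg.Agent.H301.SY.NoE p K := by
  obtain ⟨t, u, Q, v, ρ, D⟩ := Cfsg.Agent.KFacts.J2.Facts.exists_dat_of h
  have F := D.F
  have M := D.M
  have hc : Nat.card K = 604800 := Order.card_of_fus F
  have hna : ¬ IsMulCommutative K := YJ3.na F.hz (by rw [F.cardC, hc]; norm_num)
  refine noE_of_mem_primeFactors hc fun hpn => ?_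
  have h3 : Nat.primeFactors 604800 = {2, 3, 5, 7} := by decide +kernel
  rw [h3] at hpn
  simp only [Finset.mem_insert, Finset.mem_singleton] at hpn
  rcases hpn with rfl | rfl | rfl | rfl
  · omega
  · omega
  · refine NoE.of_even (center_eq_bot hna) fun x hx => ?_
    obtain ⟨g, hg⟩ := five_comm F hx
    have key : ∀ v : K, v ≠ 1 → ¬ 5 ∣ Nat.card (radIn (centralizer ({v} : Set K))) →
        g * x * g⁻¹ * v = v * (g * x * g⁻¹) → ∃ u : K, u ≠ 1 ∧ u * x = x * u ∧
          ¬ 5 ∣ Nat.card (radIn (centralizer ({u} : Set K))) := by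
      intro v hv hr hgv
      refine ⟨g⁻¹ * v * g⁻¹⁻¹, ?_, ?_, ?_⟩
      · intro h1
        apply hv
        have h2 : v = g * (g⁻¹ * v * g⁻¹⁻¹) * g⁻¹ := by group
        rw [h2, h1]
        group
      · calc g⁻¹ * v * g⁻¹⁻¹ * x = g⁻¹ * (v * (g * x * g⁻¹)) * g := by group
          _ = g⁻¹ * (g * x * g⁻¹ * v) * g := by rw [hgv]
          _ = _ := by group
      · rwa [card_radIn_centralizer_conj]
    rcases hg with hg | hg
    · exact key t D.t_ne (YJ3.not_five_dvd_rad M F.cardC) hg
    · exact key u D.u_ne (not_five_dvd_rad_u F) hg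
  · have hcyc : ∀ P : Sylow 7 K, IsCyclic (P : Subgroup K) := cyclic_of_card (by rw [hc]; decide +kernel)
    refine NoE.of_m0 hna hcyc fun x hx hR hY => m0_num hcyc hb hO hx hR hY fun s hs hs7 hsd => ?_
    have hs' : s ∣ 2 * 3 := hsd
    rcases (hs.dvd_mul).1 hs' with h4 | h4
    · obtain rfl := (Nat.prime_dvd_prime_iff_eq hs Nat.prime_two).1 h4
      right
      obtain ⟨T, hT, hW⟩ := exists_sylow_two M F.cardC (by rw [hc]; decide +kernel)
      refine ⟨?_, T, ?_⟩
      · intro h2
        haveI := Fact.mk Nat.prime_two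
        obtain ⟨y, hy⟩ := exists_prime_orderOf_dvd_card' (G := centralizer ({x} : Set K)) 2 h2
        have hy' : orderOf (y : K) = 2 := by rw [orderOf_coe]; exact hy
        have hyx : (y : K) * x = x * y := mem_centralizer_singleton_iff.mp y.2
        apply Cfsg.Agent.J2Type.ThreeF.not_seven_dvd_two F y hy'
        have h5 : x ∈ centralizer ({(y : K)} : Set K) := mem_centralizer_singleton_iff.mpr hyx.symm
        have h6 : orderOf (⟨x, h5⟩ : centralizer ({(y : K)} : Set K)) = 7 := by rw [Subgroup.orderOf_mk]; exact hx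
        rw [← h6]
        exact _root_.orderOf_dvd_natCard _
      · rintro a j n h1 h2 h3 h4 h5 h6 ⟨W, hWT, hWc, -, hWn⟩
        have h7 := hW W hWT hWc
        rw [hT] at h1
        have h8 : a + j = 7 := (Nat.pow_right_injective le_rfl h1).symm
        have h9 : j ≤ 1 := by
          by_contra h10
          have h11 : 2 ^ 2 ∣ 7 - 1 := (pow_dvd_pow 2 (by omega)).trans h3
          revert h11
          decide
        have h12 : 2 ^ (2 ^ j) ≤ 2 ^ (2 ^ 1) := Nat.pow_le_pow_right (by norm_num) (Nat.pow_le_pow_right (by norm_num) h9)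
        have h13 : Nat.card W ^ (2 ^ j) ≤ 2 ^ (2 ^ j) := Nat.pow_le_pow_left h7 _
        have h14 : 2 ^ n ≤ 2 ^ 2 := (hWn.trans h13).trans h12
        have h15 : n ≤ 2 := (Nat.pow_le_pow_iff_right (by norm_num)).1 h14
        interval_cases n <;> revert h5 <;> decide
    · obtain rfl := (Nat.prime_dvd_prime_iff_eq hs Nat.prime_three).1 h4
      left
      intro i hi h1 h2
      rw [hc] at h1
      have h4 : i ≤ 3 := by
        by_contra h5
        have h6 : (3 : ℕ) ^ 4 ∣ 604800 := (pow_dvd_pow 3 (by omega)).trans h1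
        revert h6
        decide +kernel
      interval_cases i <;> revert h2 <;> decide

end Cfsg.Agent.H305.YJ2
end

-- part: H51/SY/J4
section
/-!
# S3846: the fourth Janko group (helper51)

`p = 5, 7, 23` : the subgroup `M₂₄`; `p = 11` : every element of order 11 commutes with an involution; `p = 29, 37` : by
order; `p = 31, 43` : Theorem O for the prime `2`.
-/

set_option autoImplicit false

namespace Cfsg.Agent.H51.SY.J4

open Subgroup Cfsg Cfsg.Agent.H301.SY Cfsg.Agent.H459.Rad Cfsg.Agent.H51.SY Cfsg.Agent.H839.Rad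

theorem card_J4 : Nat.card Spor.J4 = 86775571046077562880 := Cfsg.Agent.J4.Final.card_J4

theorem finite_J4 : Finite Spor.J4 := Nat.finite_of_card_ne_zero (by rw [card_J4]; norm_num)

theorem simple_J4 : IsSimpleGroup Spor.J4 := Cfsg.Agent.J4.Final.isSimple_card.1

theorem of_M24 {p : ℕ} (hp : p.Prime) (h : p ∣ 244823040) (h2 : ¬ p ^ 2 ∣ 86775571046077562880) : NoE p Spor.J4 := by
  have := finite_J4
  have : Fact p.Prime := ⟨hp⟩
  have hs : IsSimpleGroup M24 := Cfsg.Agent.S0365.result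
  have hf : Finite M24 := Nat.finite_of_card_ne_zero (by rw [Cfsg.Agent.S2038.card_M24]; norm_num)
  refine NoE.of_lw (cyclic_of_card (by rw [card_J4]; exact h2))
    (Lw.of_simple (Q := M24) (fun hsol => not_comm_of_card (K := M24) (by
      rw [Cfsg.Agent.S2038.card_M24]
      norm_num) ⟨⟨fun a b => IsSimpleGroup.comm_iff_isSolvable.2 hsol a b⟩⟩) (by
      rw [Cfsg.Agent.S2038.card_M24]
      exact h) Cfsg.Agent.J4.Pres.phi Cfsg.Agent.H49.JFourThree.phi_injective ?_)
  intro h3
  have h4 := Cfsg.Agent.H49.JFourThree.card_range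
  rw [MonoidHom.range_eq_top.2 h3, card_top, card_J4] at h4
  norm_num at h4

/-- no element of order `p` in the radical -/
theorem not_dvd_rad {K : Type*} [Group K] [Finite K] {p : ℕ} (hp : p.Prime) {L : Subgroup K} (h : RadFree p L) :
    ¬ p ∣ Nat.card (radIn L) := by
  intro h1
  have : Fact p.Prime := ⟨hp⟩
  have h2 : Nat.card (radIn L) = Nat.card (solvableRadical L) :=
    Subgroup.card_map_of_injective L.subtype_injective
  rw [h2] at h1
  obtain ⟨x, hx⟩ := exists_prime_orderOf_dvd_card' (G := solvableRadical L) p h1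
  exact h x (by rw [Subgroup.orderOf_coe, hx]) x.2

theorem eleven : NoE 11 Spor.J4 := by
  have := finite_J4
  have hs := simple_J4
  have : Fact (Nat.Prime 11) := ⟨by norm_num⟩
  have hG : ¬ IsMulCommutative Spor.J4 := not_comm_of_card (by rw [card_J4]; norm_num)
  obtain ⟨z, hz⟩ := Cfsg.Agent.H337.isOfJankoFourType_of_isoJ4 (G := Spor.J4) ⟨MulEquiv.refl _⟩
  refine NoE.of_even (Cfsg.Agent.H301.SY.center_eq_bot hG) fun x hx => ?_
  obtain ⟨t, ht, hxt⟩ := Cfsg.Agent.H478.RadJ4.exists_invol hx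
  refine ⟨t, ?_, hxt.symm, not_dvd_rad (by norm_num) (Cfsg.Agent.H478.RadJ4.radFree_invol hG hz ht)⟩
  rintro rfl
  rw [orderOf_one] at ht
  omega

/-- elements of order two in the centre of a Sylow 2-subgroup -/
theorem exists_sylow {K : Type*} [Group K] [Finite K] (h : Cfsg.Spor.IsoJ4 K) : ∃ T : Sylow 2 K,
    ∀ W : Subgroup K, W ≤ T → (∀ w ∈ W, ∀ u ∈ (T : Subgroup K), w * u = u * w) → Nat.card W ≤ 2 := by
  obtain ⟨z, P, hz, ⟨-, hQ⟩, hcard, hself, -, -, hfix, -⟩ := Cfsg.Agent.H337.isOfJankoFourType_of_isoJ4 h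
  set Q := twoCoreOfCentralizer z with hQd
  have hzQ : z ∈ Q := by
    have h1 : z ∈ Q ⊓ centralizer (P : Set K) := by rw [hfix]; exact mem_zpowers z
    exact h1.1
  have : Fact (Nat.Prime 2) := ⟨Nat.prime_two⟩
  have hQp : IsPGroup 2 Q := IsPGroup.of_card hcard
  obtain ⟨T, hT⟩ := hQp.exists_le_sylow
  refine ⟨T, fun W hW hc => ?_⟩
  have hWQ : ∀ w ∈ W, w ∈ Q := by
    intro w hw
    apply hself
    refine ⟨mem_centralizer_singleton_iff.2 (hc w hw z (hT hzQ)), mem_centralizer_iff.2 fun q hq => ?_⟩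
    exact (hc w hw q (hT hq)).symm
  have h1 : W.subgroupOf Q ≤ center Q := by
    intro w hw
    rw [mem_center_iff]
    intro q
    exact Subtype.ext (hc w (mem_subgroupOf.1 hw) q (hT q.2)).symm
  have h2 : Nat.card (W.subgroupOf Q) = Nat.card W := Nat.card_congr (subgroupOfEquivOfLe hWQ).toEquiv
  rw [← h2, ← hQ]
  exact Nat.le_of_dvd Nat.card_pos (Subgroup.card_dvd_of_le h1)

/-- Theorem O for the prime `2` -/
theorem cond_two {K : Type*} [Group K] [Finite K] (h : Cfsg.Spor.IsoJ4 K) {p : ℕ} (h1 : ¬ p ∣ 2 ^ 1 - 1)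
    (h2 : ¬ p ∣ 2 ^ 2 - 1) (h4 : ¬ 4 ∣ p - 1) : ∃ T : Sylow 2 K, ∀ a j n : ℕ,
      Nat.card T = 2 ^ (a + j) → p ∣ 2 ^ a - 1 → 2 ^ j ∣ p - 1 → 0 < n → p ∣ 2 ^ n - 1 → n ≤ a →
      (∃ W : Subgroup K, W ≤ T ∧ (∀ w ∈ W, ∀ u ∈ (T : Subgroup K), w * u = u * w) ∧ (∀ w ∈ W, w ^ 2 = 1) ∧
        2 ^ n ≤ Nat.card W ^ (2 ^ j)) → False := by
  obtain ⟨T, hT⟩ := exists_sylow h
  refine ⟨T, fun a j n _ _ hj hn hpn _ hW => ?_⟩
  obtain ⟨W, hW1, hW2, -, hW4⟩ := hW
  have hj1 : j ≤ 1 := by
    by_contra h5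
    exact h4 (((by norm_num : (4 : ℕ) = 2 ^ 2) ▸ pow_dvd_pow 2 (by omega : 2 ≤ j)).trans hj)
  have hW5 : Nat.card W ^ (2 ^ j) ≤ 2 ^ (2 ^ j) := Nat.pow_le_pow_left (hT W hW1 hW2) _
  have hn2 : n ≤ 2 ^ j := (Nat.pow_le_pow_iff_right (by norm_num : 1 < 2)).1 (hW4.trans hW5)
  have hn3 : n ≤ 2 := hn2.trans (by
    calc 2 ^ j ≤ 2 ^ 1 := Nat.pow_le_pow_right (by norm_num) hj1
      _ = 2 := by norm_num)
  interval_cases n
  · exact h1 hpn
  · exact h2 hpn

/-- the centralizers of the elements of order `31` and `43` have odd order -/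
theorem odd_cent {K : Type*} [Group K] [Finite K] (e : K ≃* Spor.J4) {p : ℕ} [hp : Fact p.Prime] (hp2 : ¬ 2 ∣ p)
    (h : ∀ P : Subgroup Spor.J4, Nat.card P = p → Nat.card (centralizer (P : Set Spor.J4)) = p) {x : K}
    (hx : orderOf x = p) : ¬ 2 ∣ Nat.card (centralizer ({x} : Set K)) := by
  have h1 : Nat.card (zpowers (e x)) = p := by rw [Nat.card_zpowers, MulEquiv.orderOf_eq, hx]
  have h2 := h _ h1
  rw [zpowers_eq_closure, Subgroup.centralizer_closure] at h2
  have h3 := Cfsg.Agent.H301.SY.card_centralizer e x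
  intro h4
  apply hp2
  rw [← h2]
  rwa [← h3]

/-- **`J4`** -/
theorem noE_j4 {K : Type*} [Group K] [Finite K] [IsSimpleGroup K] (h : Cfsg.Spor.IsoJ4 K) {p : ℕ} [hf : Fact p.Prime]
    (hp : 5 ≤ p) (hb : Blk p K) (hO : ThO p K) : NoE p K := by
  have hJ := h
  obtain ⟨e⟩ := h
  have := finite_J4
  have hc : Nat.card K = 86775571046077562880 := (Nat.card_congr e.toEquiv).trans card_J4
  have hna : ¬ IsMulCommutative K := not_comm_of_card (by rw [hc]; norm_num)
  by_cases hd : p ∣ 86775571046077562880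
  swap
  · exact noE_of_not_dvd (by rw [hc]; exact hd)
  have hpp := hf.out
  have h1 : p ∣ 2 ^ 21 * 3 ^ 3 * 5 * 7 * 11 ^ 3 * 23 * 29 * 31 * 37 * 43 := by norm_num; exact hd
  have h2 : p = 5 ∨ p = 7 ∨ p = 11 ∨ p = 23 ∨ p = 29 ∨ p = 31 ∨ p = 37 ∨ p = 43 := by
    rw [hpp.dvd_mul, hpp.dvd_mul, hpp.dvd_mul, hpp.dvd_mul, hpp.dvd_mul, hpp.dvd_mul, hpp.dvd_mul, hpp.dvd_mul,
      hpp.dvd_mul] at h1
    have key : ∀ {q : ℕ}, q.Prime → p ∣ q → p = q := fun hq h => (Nat.prime_dvd_prime_iff_eq hpp hq).1 h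
    rcases h1 with ((((((((h1 | h1) | h1) | h1) | h1) | h1) | h1) | h1) | h1) | h1
    · have := key Nat.prime_two (hpp.dvd_of_dvd_pow h1); omega
    · have := key Nat.prime_three (hpp.dvd_of_dvd_pow h1); omega
    · have := key Nat.prime_five h1; omega
    · have := key (by norm_num) h1; omega
    · have := key (by norm_num) (hpp.dvd_of_dvd_pow h1); omega
    · have := key (by norm_num) h1; omega
    · have := key (by norm_num) h1; omega
    · have := key (by norm_num) h1; omega
    · have := key (by norm_num) h1; omega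
    · have := key (by norm_num) h1; omega
  have two : ∀ {t : ℕ}, t.Prime → t ∣ 2 → t = 2 := fun ht h => (Nat.prime_dvd_prime_iff_eq ht Nat.prime_two).1 h
  have three : ∀ {t : ℕ}, t.Prime → t ∣ 3 → t = 3 := fun ht h => (Nat.prime_dvd_prime_iff_eq ht Nat.prime_three).1 h
  rcases h2 with rfl | rfl | rfl | rfl | rfl | rfl | rfl | rfl
  · exact NoE.congr e (of_M24 hpp (by norm_num) (by norm_num))
  · exact NoE.congr e (of_M24 hpp (by norm_num) (by norm_num))
  · exact NoE.congr e eleven
  · exact NoE.congr e (of_M24 hpp (by norm_num) (by norm_num))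
  · refine noE_of_order hna (by rw [hc]; norm_num) hb hO fun t ht htd => ?_
    have h3 : t ∣ 2 ^ 2 * 7 := htd
    rcases ht.dvd_mul.1 h3 with h4 | h4
    · have := two ht (ht.dvd_of_dvd_pow h4)
      subst this
      exact cond_order (v := 21) (by rw [hc]; norm_num) (by decide)
    · have := (Nat.prime_dvd_prime_iff_eq ht (by norm_num)).1 h4
      subst this
      exact cond_order (v := 1) (by rw [hc]; norm_num) (by decide)
  · have hcyc := cyclic_of_card (K := K) (p := 31) (by rw [hc]; norm_num)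
    refine NoE.of_m0 hna hcyc fun x hx hR hY => m0_num hcyc hb hO hx hR hY fun t ht _ htd => ?_
    have h3 : t ∣ 2 * 3 * 5 := htd
    rcases ht.dvd_mul.1 h3 with h4 | h4
    · rcases ht.dvd_mul.1 h4 with h4 | h4
      · have := two ht h4
        subst this
        exact Or.inr ⟨odd_cent e (by norm_num) (fun P hP => (Cfsg.Agent.H859.BigNum.data31 hP).1) hx,
          cond_two hJ (by norm_num) (by norm_num) (by norm_num)⟩
      · have := three ht h4
        subst this
        exact Or.inl (cond_order (v := 3) (by rw [hc]; norm_num) (by decide))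
    · have := (Nat.prime_dvd_prime_iff_eq ht (by norm_num)).1 h4
      subst this
      exact Or.inl (cond_order (v := 1) (by rw [hc]; norm_num) (by decide))
  · refine noE_of_order hna (by rw [hc]; norm_num) hb hO fun t ht htd => ?_
    have h3 : t ∣ 2 ^ 2 * 3 ^ 2 := htd
    rcases ht.dvd_mul.1 h3 with h4 | h4
    · have := two ht (ht.dvd_of_dvd_pow h4)
      subst this
      exact cond_order (v := 21) (by rw [hc]; norm_num) (by decide)
    · have := three ht (ht.dvd_of_dvd_pow h4)
      subst this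
      exact cond_order (v := 3) (by rw [hc]; norm_num) (by decide)
  · have hcyc := cyclic_of_card (K := K) (p := 43) (by rw [hc]; norm_num)
    refine NoE.of_m0 hna hcyc fun x hx hR hY => m0_num hcyc hb hO hx hR hY fun t ht _ htd => ?_
    have h3 : t ∣ 2 * 3 * 7 := htd
    rcases ht.dvd_mul.1 h3 with h4 | h4
    · rcases ht.dvd_mul.1 h4 with h4 | h4
      · have := two ht h4
        subst this
        exact Or.inr ⟨odd_cent e (by norm_num) (fun P hP => (Cfsg.Agent.H859.BigNum.data43 hP).1) hx,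
          cond_two hJ (by norm_num) (by norm_num) (by norm_num)⟩
      · have := three ht h4
        subst this
        exact Or.inl (cond_order (v := 3) (by rw [hc]; norm_num) (by decide))
    · have := (Nat.prime_dvd_prime_iff_eq ht (by norm_num)).1 h4
      subst this
      exact Or.inl (cond_order (v := 1) (by rw [hc]; norm_num) (by decide))

end Cfsg.Agent.H51.SY.J4
end

-- part: H837/NoEFi23
section
/-!
# S3846: the row `Fi23` (helper837)

* `card_radIn_dvd` : the radical of a quasisimple subgroup is central;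
* `p = 5, 7, 11, 13` : `2.Fi22` has index prime to `p`; `p = 17` : an element of order 17 normalises no 2-subgroup
  (`H465.SpFi23.no_two`); `p = 23` : Theorem O.
-/

set_option autoImplicit false

namespace Cfsg.Agent.H837.NoEFi23

open Cfsg Subgroup Cfsg.Agent.H459.Rad Cfsg.Agent.H301.SY Cfsg.Agent.H51.SY
open Cfsg.Agent.Fischer.Fi23Simple (card_Fi23)
open Cfsg.Agent.Fischer.Fi23Class (K)
open Cfsg.Spor (Fi23)

/-- the radical of a quasisimple subgroup is central -/
theorem card_radIn_dvd {G : Type*} [Group G] [Finite G] {L : Subgroup G} (hq : IsQuasisimple L) :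
    Nat.card (radIn L) ∣ Nat.card (center L) := by
  have h1 : Nat.card (radIn L) = Nat.card (solvableRadical L) :=
    Subgroup.card_map_of_injective L.subtype_injective
  rw [h1]
  refine card_dvd_of_le ?_
  by_contra hc
  have h2 := Cfsg.Agent.GH.Cov.Prod.eq_top_of_normal hq.1.commutator_eq_top hq.2 (rad_normal L) hc
  have h3 : Group.IsSolvable L := by
    have h4 : Group.IsSolvable (⊤ : Subgroup L) := by
      rw [← h2]
      exact rad_solvable L
    exact Group.isSolvable_of_isSolvable_injective (f := (Subgroup.topEquiv (G := L)).symm.toMonoidHom)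
      (MulEquiv.injective _)
  have h5 : Nontrivial L := by
    have := hq.2.toNontrivial
    exact (QuotientGroup.mk'_surjective (center L)).nontrivial
  have h6 := Group.IsSolvable.commutator_lt_top_of_nontrivial L
  rw [hq.1.commutator_eq_top] at h6
  exact lt_irrefl _ h6

theorem card_rad_K : Nat.card (radIn (K : Subgroup Fi23)) ∣ 2 := by
  have := Cfsg.Agent.H465.SpFi23.finF
  have h1 := card_radIn_dvd Cfsg.Agent.KFacts.FiTTh.Quasi.qs_K
  rwa [Cfsg.Agent.KFacts.FiTTh.Quasi.cover.1] at h1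

theorem K_index : (K : Subgroup Fi23).index = 31671 := Cfsg.Agent.SporRec.Fi23Index.index_H

/-- `p = 5, 7, 11, 13` -/
theorem noE_small {p : ℕ} [hp : Fact p.Prime] (h2 : p ≠ 2) (hi : ¬ p ∣ 31671) : NoE p Fi23 := by
  have := Cfsg.Agent.H465.SpFi23.finF
  refine noE_of_index (L := K) ?_ (by rw [K_index]; exact hi) ?_
  · intro h
    have := K_index
    rw [h, index_top] at this
    omega
  · intro h
    exact h2 ((Nat.prime_dvd_prime_iff_eq hp.out Nat.prime_two).1 (h.trans card_rad_K))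

theorem dvd_two_pow {t k : ℕ} (ht : t.Prime) (h : t ∣ 2 ^ k) : t = 2 :=
  (Nat.prime_dvd_prime_iff_eq ht Nat.prime_two).1 (ht.dvd_of_dvd_pow h)

theorem noE_fi23 {K : Type*} [Group K] [Finite K] [IsSimpleGroup K] (h : Cfsg.Spor.IsoFi23 K) {p : ℕ}
    [hpf : Fact p.Prime] (hp : 5 ≤ p) (hb : Cfsg.Agent.H301.SY.Blk p K) (hO : Cfsg.Agent.H301.SY.ThO p K) :
    Cfsg.Agent.H301.SY.NoE p K := by
  obtain ⟨e⟩ := h
  have hfin := Cfsg.Agent.H465.SpFi23.finF
  have hcard : Nat.card K = 4089470473293004800 := by rw [Nat.card_congr e.toEquiv, card_Fi23]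
  have hna : ¬ IsMulCommutative K := not_comm_of_card (by rw [hcard]; norm_num)
  by_cases hd : p ∣ Nat.card K
  swap
  · exact noE_of_not_dvd hd
  by_cases hi : p ∣ 31671
  swap
  · exact NoE.congr e (noE_small (by omega) hi)
  have hp' : p = 17 ∨ p = 23 := by
    have h1 : (31671 : ℕ) = 3 ^ 4 * 17 * 23 := by norm_num
    rw [h1] at hi
    rcases (Nat.Prime.dvd_mul hpf.out).1 hi with h2 | h2
    · rcases (Nat.Prime.dvd_mul hpf.out).1 h2 with h3 | h3
      · have := (Nat.prime_dvd_prime_iff_eq hpf.out Nat.prime_three).1 (hpf.out.dvd_of_dvd_pow h3)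
        omega
      · exact Or.inl ((Nat.prime_dvd_prime_iff_eq hpf.out (by norm_num)).1 h3)
    · exact Or.inr ((Nat.prime_dvd_prime_iff_eq hpf.out (by norm_num)).1 h2)
  rcases hp' with rfl | rfl
  · -- `p = 17`
    have hcyc := cyclic_of_card (K := K) (p := 17) (by rw [hcard]; norm_num)
    refine NoE.of_m0 hna hcyc fun x hx _ hY => M0.of_triv_blk hcyc hb hx hY fun t ht _ htd R hR hxR => ?_
    have ht2 : t = 2 := dvd_two_pow ht (k := 4) (by simpa using htd)
    subst ht2
    by_cases h0 : R = ⊥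
    · rw [h0]
      intro a ha
      rw [mem_bot.1 ha, mul_one, one_mul]
    · exfalso
      refine Cfsg.Agent.H465.SpFi23.no_two (y := e x) (E := R.map e.toMonoidHom) ?_ (hR.map _) ?_ ?_
      · rw [MulEquiv.orderOf_eq, hx]
      · rwa [Ne, Subgroup.map_eq_bot_iff_of_injective _ e.injective]
      · rintro _ ⟨u, hu, rfl⟩
        exact ⟨_, hxR u hu, by simp only [_root_.MulEquiv.toMonoidHom_eq_coe, _root_.MonoidHom.coe_coe, _root_.map_mul, _root_.map_inv]⟩
  · -- `p = 23`
    have hcyc := cyclic_of_card (K := K) (p := 23) (by rw [hcard]; norm_num)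
    refine NoE.of_m0 hna hcyc fun x hx hR hY => m0_num hcyc hb hO hx hR hY fun t ht _ htd => ?_
    have ht' : t = 2 ∨ t = 11 := by
      have h1 : (23 - 1 : ℕ) = 2 * 11 := by norm_num
      rw [h1] at htd
      rcases (Nat.Prime.dvd_mul ht).1 htd with h2 | h2
      · exact Or.inl ((Nat.prime_dvd_prime_iff_eq ht Nat.prime_two).1 h2)
      · exact Or.inr ((Nat.prime_dvd_prime_iff_eq ht (by norm_num)).1 h2)
    rcases ht' with rfl | rfl
    · right
      have hx' : orderOf (e x) = 23 := by rw [MulEquiv.orderOf_eq, hx]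
      refine ⟨?_, ?_⟩
      · intro h2
        have : Fact (Nat.Prime 2) := ⟨Nat.prime_two⟩
        obtain ⟨u, hu⟩ := exists_prime_orderOf_dvd_card' 2 h2
        have h3 := (Cfsg.Agent.H839.Fi23.twentythree_main (zpowers (e x)) (by rw [Nat.card_zpowers, hx'])).2
        have hux : Commute x (u : K) := (mem_centralizer_singleton_iff.1 u.2).symm
        have h4 : e (u : K) ∈ centralizer ((zpowers (e x) : Subgroup Fi23) : Set Fi23) := by
          rw [mem_centralizer_iff]
          rintro g hg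
          obtain ⟨i, rfl⟩ := mem_zpowers_iff.1 hg
          exact (Commute.zpow_left (hux.map e) i).eq
        rw [h3] at h4
        have h5 := orderOf_dvd_of_mem_zpowers h4
        rw [MulEquiv.orderOf_eq, orderOf_coe, hu, hx'] at h5
        omega
      · obtain ⟨T⟩ : Nonempty (Sylow 2 K) := inferInstance
        refine ⟨T, ?_⟩
        intro a j n h1 h2 h3 _ _ _ _
        have : Fact (Nat.Prime 2) := ⟨Nat.prime_two⟩
        have h4 : a + j = 18 := by
          have h5 := T.card_eq_multiplicity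
          rw [hcard] at h5
          have h6 : (4089470473293004800 : ℕ).factorization 2 = 18 := by
            have h7 : (4089470473293004800 : ℕ) = 2 ^ 18 * 15600091832325 := by norm_num
            rw [h7, Nat.factorization_mul (by norm_num) (by norm_num), Nat.Prime.factorization_pow Nat.prime_two,
              Finsupp.add_apply, Finsupp.single_eq_same,
              Nat.factorization_eq_zero_of_not_dvd (by norm_num : ¬ 2 ∣ 15600091832325)]
          rw [h6, h1] at h5
          exact Nat.pow_right_injective le_rfl h5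
        have h5 : j ≤ 1 := by
          by_contra h6
          have h7 : 2 ^ 2 ∣ 23 - 1 := (pow_dvd_pow 2 (by omega)).trans h3
          omega
        have h6 : a = 17 ∨ a = 18 := by omega
        rcases h6 with rfl | rfl
        · norm_num at h2
        · norm_num at h2
    · left
      refine cond_order (v := 1) (by rw [hcard]; norm_num) ?_
      intro i hi
      have : i = 1 := by
        rw [Finset.mem_Icc] at hi
        omega
      subst this
      decide

end Cfsg.Agent.H837.NoEFi23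
end
end
end
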